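import Groth.Agent.CycLib.ChowOp.Chern

/-!
Flat morphisms with injective pull-back splitting several bundles.
-/

set_option autoImplicit false
set_option linter.style.haveILetI false
set_option maxHeartbeats 800000

universe u

open CategoryTheory Limits AlgebraicGeometry

noncomputable section

namespace Groth.Agent.CycLib.ChowOp

open Groth.Agent.CycLib.Dev

theorem esymm_cons {R : Type*} [CommSemiring R] (a : R) (s : Multiset R) (n : ℕ) :
    (a ::ₘ s).esymm (n + 1) = s.esymm (n + 1) + a * s.esymm n := by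
  simp [Multiset.esymm, Multiset.powersetCard_cons, Multiset.sum_map_mul_left]

theorem esymm_add {R : Type*} [CommSemiring R] (s t : Multiset R) :
    ∀ n : ℕ, (s + t).esymm n = ∑ ij ∈ Finset.HasAntidiagonal.antidiagonal n, s.esymm ij.1 * t.esymm ij.2 := by
  induction s using Multiset.induction_on with
  | empty =>
    intro n
    rw [zero_add, Finset.sum_eq_single (0, n)]
    · simp [Multiset.esymm]
    · rintro ⟨i, j⟩ hij hne
      obtain ⟨i', rfl⟩ : ∃ i', i = i' + 1 := by
        rw [Finset.HasAntidiagonal.mem_antidiagonal] at hij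
        refine ⟨i - 1, ?_⟩
        rcases Nat.eq_zero_or_pos i with rfl | hi
        · exact absurd (by simpa using hij) (by simpa using hne)
        · omega
      simp [Multiset.esymm]
    · simp
  | cons a s ih =>
    intro n
    cases n with
    | zero => simp [Multiset.esymm]
    | succ n =>
      rw [Multiset.cons_add, esymm_cons, ih, ih, Finset.Nat.sum_antidiagonal_succ,
        Finset.Nat.sum_antidiagonal_succ, Finset.mul_sum, add_assoc, ← Finset.sum_add_distrib]
      congr 1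
      · simp [Multiset.esymm]
      · refine Finset.sum_congr rfl fun ij _ => ?_
        rw [esymm_cons, add_mul, mul_assoc]

variable {X : Scheme.{u}} [IsLocallyNoetherian X] {δ : X → ℤ}

theorem esym_cons (hd : Cyc.IsDimFun X δ) (L : X.Modules) (ls : List X.Modules) (n : ℕ) :
    esym hd (L :: ls) (n + 1) = esym hd ls (n + 1) + c1of hd L * esym hd ls n := by
  simp only [esym, List.map_cons, ← Multiset.cons_coe, esymm_cons]

theorem esym_zero (hd : Cyc.IsDimFun X δ) (ls : List X.Modules) : esym hd ls 0 = 1 := by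
  simp [esym, Multiset.esymm]

theorem esym_nil (hd : Cyc.IsDimFun X δ) (n : ℕ) : esym hd [] (n + 1) = 0 := by
  simp [esym, Multiset.esymm]

theorem esym_append (hd : Cyc.IsDimFun X δ) (l l' : List X.Modules) (n : ℕ) :
    esym hd (l ++ l') n = ∑ ij ∈ Finset.HasAntidiagonal.antidiagonal n, esym hd l ij.1 * esym hd l' ij.2 := by
  simp only [esym, List.map_append, ← Multiset.coe_add, esymm_add]

section Pull

variable {Y : Scheme.{u}} [IsLocallyNoetherian Y] {δY : Y → ℤ} (hY : Cyc.IsSetup Y δY)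
  (hX : Cyc.IsSetup X δ) (f : Y ⟶ X) [Flat f] {c : ℤ} (hs : ShiftBy f δY δ c)

theorem pull_c1of {L : X.Modules} (hL : PicF.IsInvertible L) (x : Tot hX.2.2) :
    pull hY hX f hs ((c1of hX.2.2 L).1 x) =
      (c1of hY.2.2 ((Scheme.Modules.pullback f).obj L)).1 (pull hY hX f hs x) := by
  rw [c1of, dif_pos hL, c1of, dif_pos (PicCl.isInvertible_pullback f hL)]
  exact pull_c1op hY hX f hs hL _ x

theorem pull_esym : ∀ (ls : List X.Modules), (∀ L ∈ ls, PicF.IsInvertible L) → ∀ (n : ℕ) (x : Tot hX.2.2),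
    pull hY hX f hs ((esym hX.2.2 ls n).1 x) =
      (esym hY.2.2 (ls.map (Scheme.Modules.pullback f).obj) n).1 (pull hY hX f hs x) := by
  intro ls
  induction ls with
  | nil =>
    intro _ n x
    cases n with
    | zero => simp [esym_zero]
    | succ n => simp [esym_nil]
  | cons L ls ih =>
    intro h n x
    cases n with
    | zero => simp [esym_zero]
    | succ n =>
      have h' := fun M hM => h M (List.mem_cons_of_mem _ hM)
      rw [List.map_cons, esym_cons, esym_cons]
      show pull hY hX f hs ((esym hX.2.2 ls (n + 1)).1 x + (c1of hX.2.2 L).1 ((esym hX.2.2 ls n).1 x)) = _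
      rw [map_add, pull_c1of hY hX f hs (h L List.mem_cons_self), ih h', ih h']
      rfl

theorem pull_comp {Z : Scheme.{u}} [IsLocallyNoetherian Z] {δZ : Z → ℤ} (hZ : Cyc.IsSetup Z δZ) (g : Z ⟶ Y)
    [Flat g] {e : ℤ} (hg : ShiftBy g δZ δY e) (hgf : ShiftBy (g ≫ f) δZ δ (c + e)) (x : Tot hX.2.2) :
    pull hZ hX (g ≫ f) hgf x = pull hZ hY g hg (pull hY hX f hs x) := by
  funext m
  obtain ⟨n, hn⟩ : ∃ n, m = n + e := ⟨m - e, by ring⟩
  rw [pull_apply hZ hX (g ≫ f) hgf x (show m = n - c + (c + e) by rw [hn]; ring), pull_apply hZ hY g hg _ hn,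
    pull_apply hY hX f hs x (show n = n - c + c by ring)]
  obtain ⟨a, ha⟩ := mk_surjective hX.2.2 _ (x (n - c))
  rw [← ha, pullg_mk, pullg_mk, pullg_mk]
  congr 1
  exact Subtype.ext (pullFun_comp_shifts g f hZ.2.2 hY.2.2 hg hs _)

omit hs in
theorem pull_congr {c' : ℤ} (hs : ShiftBy f δY δ c) (hs' : ShiftBy f δY δ c') (e : c = c') (x : Tot hX.2.2) :
    pull hY hX f hs x = pull hY hX f hs' x := by
  subst e
  rfl

end Pull

variable (hX : Cyc.IsSetup X δ)

/-- A flat morphism with injective pull-back. -/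
structure Split where
  Y : Scheme.{u}
  [noeth : IsLocallyNoetherian Y]
  f : Y ⟶ X
  [flat : Flat f]
  [lft : LocallyOfFiniteType f]
  c : ℕ
  δY : Y → ℤ
  hY : Cyc.IsSetup Y δY
  hs : ShiftBy f δY δ (c : ℤ)
  hc : Cyc.HasRelDim f c
  hf : Cyc.DeltaCompat f δY δ
  inj : Function.Injective (pull hY hX f hs)

attribute [instance] Split.noeth Split.flat Split.lft

/-- The pulled back bundle is filtered by the list. -/
def Split.Fil (S : Split hX) (E : X.Modules) (ls : List S.Y.Modules) : Prop :=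
  Filt ((Scheme.Modules.pullback S.f).obj E) ls

/-- The pull-back map. -/
abbrev Split.pl (S : Split hX) : Tot hX.2.2 →+ Tot S.hY.2.2 := pull S.hY hX S.f S.hs

variable {hX}

/-- A split of one bundle. -/
theorem exists_split_one {r : ℕ} {E : X.Modules} (hE : FlatMod.IsFinLocFreeOfRank r E) :
    ∃ (S : Split hX) (ls : List S.Y.Modules), ls.length = r ∧ S.Fil hX E ls := by
  obtain ⟨Y, hn, f, hfl, hlft, c, δY, hY, hs, ls, hc, hf, hinj, hlen, hfil⟩ := exists_split hX hE
  exact ⟨⟨Y, f, c, δY, hY, hs, hc, hf, hinj⟩, ls, hlen, hfil⟩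

/-- Composition of splits. -/
def Split.comp (S : Split hX) (T : Split S.hY) : Split hX :=
  letI hgf : ShiftBy (T.f ≫ S.f) T.δY δ ((S.c : ℤ) + T.c) := T.hs.comp S.hs
  { Y := T.Y
    f := T.f ≫ S.f
    c := T.c + S.c
    δY := T.δY
    hY := T.hY
    hs := fun x hx => by rw [hgf x hx]; push_cast; ring
    hc := (S1857.result T.Y S.Y X T.δY S.δY δ T.hY S.hY hX T.f S.f T.c S.c T.hc S.hc T.hf S.hf 0).1
    hf := deltaCompat_comp T.hf S.hf
    inj := by
      intro x y hxy
      refine S.inj (T.inj ?_)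
      rw [← pull_comp S.hY hX S.f S.hs T.hY T.f T.hs hgf, ← pull_comp S.hY hX S.f S.hs T.hY T.f T.hs hgf,
        pull_congr T.hY hX (T.f ≫ S.f) hgf (fun x hx => by rw [hgf x hx]; push_cast; ring)
          (show (S.c : ℤ) + T.c = ((T.c + S.c : ℕ) : ℤ) by push_cast; ring) x,
        pull_congr T.hY hX (T.f ≫ S.f) hgf (fun x hx => by rw [hgf x hx]; push_cast; ring)
          (show (S.c : ℤ) + T.c = ((T.c + S.c : ℕ) : ℤ) by push_cast; ring) y]
      exact hxy }

/-- A split of two bundles. -/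
theorem exists_split_two {r s : ℕ} {E F : X.Modules} (hE : FlatMod.IsFinLocFreeOfRank r E)
    (hF : FlatMod.IsFinLocFreeOfRank s F) :
    ∃ (S : Split hX) (l l' : List S.Y.Modules),
      l.length = r ∧ l'.length = s ∧ S.Fil hX E l ∧ S.Fil hX F l' := by
  obtain ⟨S, l, hl, hfil⟩ := exists_split_one (hX := hX) hE
  obtain ⟨T, l', hl', hfil'⟩ := exists_split_one (hX := S.hY) (ProjBdl.isFinLocFreeOfRank_pullback S.f hF)
  refine ⟨S.comp T, l.map (Scheme.Modules.pullback T.f).obj, l', by simp [hl], hl', ?_, ?_⟩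
  · exact (hfil.pullback T.f).of_iso ((Scheme.Modules.pullbackComp T.f S.f).app E).symm
  · exact Filt.of_iso hfil' ((Scheme.Modules.pullbackComp T.f S.f).app F).symm

/-- Chern class caps after a split. -/
theorem Split.chern (S : Split hX) {P : Scheme.{u}} {p : P ⟶ X} {O1 : P.Modules} {δP : P → ℤ} {r : ℕ}
    {E : X.Modules} (hE : FlatMod.IsFinLocFreeOfRank r E) {q : (Scheme.Modules.pullback p).obj E ⟶ O1}
    (hPB : KRR.IsProjBundle p E O1 q) [IsProper p] (hP : Cyc.IsSetup P δP) (hδ : Cyc.DeltaCompat p δP δ)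
    {ls : List S.Y.Modules} (hlen : ls.length = r) (hfl : S.Fil hX E ls)
    {k : ℤ} {α : AlgebraicCycle X ℤ} (hα : α ∈ Cyc.Zk X δ k)
    {γ : Fin (r + 1) → AlgebraicCycle X ℤ} (hγ : Cyc.IsChernCap p δ δP O1 r k α γ) (j : Fin (r + 1)) :
    S.pl hX (cls hX.2.2 (k - ((j : ℕ) : ℤ)) ⇑(γ j)) = (esym S.hY.2.2 ls j).1 (S.pl hX (cls hX.2.2 k ⇑α)) :=
  pull_chern S.hY hX S.f S.hc S.hf S.hs hE hPB hP hδ hlen hfl hα hγ j

/-- Rational equivalence is detected after a split. -/
theorem Split.ratEquiv (S : Split hX) {k : ℤ} {a b : AlgebraicCycle X ℤ} (ha : a ∈ Cyc.Zk X δ k)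
    (hb : b ∈ Cyc.Zk X δ k) (h : S.pl hX (cls hX.2.2 k ⇑a) = S.pl hX (cls hX.2.2 k ⇑b)) :
    Cyc.RatEquiv δ k a b :=
  (cls_eq_iff hX.2.2 (IsCyc.of_cycle a ha) (IsCyc.of_cycle b hb)).1 (S.inj h)

end Groth.Agent.CycLib.ChowOp
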