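import Groth.Agent.CycLib.ProjBdl.Filtered
import Groth.Agent.CycLib.ProjBdl.BundleBC
import Groth.Agent.EpiLocus.Universal
import Groth.Agent.ProjForm.Unit
import Groth.Agent.PicCl.Basic

/-!
Modules filtered by a list of line bundles.
-/

set_option autoImplicit false
set_option linter.style.haveILetI false
set_option maxHeartbeats 800000

universe u

open CategoryTheory Limits AlgebraicGeometry

noncomputable section

namespace Groth.Agent.CycLib.ChowOp

variable {X : Scheme.{u}}

/-- `E` has a filtration whose successive quotients are the line bundles of the list. -/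
inductive Filt : X.Modules → List X.Modules → Prop
  | nil {E : X.Modules} (h : IsZero E) : Filt E []
  | cons {E M L : X.Modules} {ls : List X.Modules} (a : M ⟶ E) (b : E ⟶ L) (hab : a ≫ b = 0)
      (hex : (ShortComplex.mk a b hab).ShortExact) (hL : PicF.IsInvertible L) (h : Filt M ls) : Filt E (L :: ls)

theorem Filt.invertible {E : X.Modules} {ls : List X.Modules} (h : Filt E ls) :
    ∀ L ∈ ls, PicF.IsInvertible L := by
  induction h with
  | nil => simp
  | cons a b hab hex hL h ih => exact List.forall_mem_cons.2 ⟨hL, ih⟩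

theorem shortExact_congr {A B C A' B' : X.Modules} {a : A ⟶ B} {b : B ⟶ C} {hab : a ≫ b = 0}
    (h : (ShortComplex.mk a b hab).ShortExact) (eA : A' ≅ A) (eB : B' ≅ B) :
    ∃ hab' : (eA.hom ≫ a ≫ eB.inv) ≫ eB.hom ≫ b = 0,
      (ShortComplex.mk (eA.hom ≫ a ≫ eB.inv) (eB.hom ≫ b) hab').ShortExact :=
  ⟨by simp [hab], ShortComplex.shortExact_of_iso
    (ShortComplex.isoMk eA.symm eB.symm (Iso.refl C) (by simp) (by simp)) h⟩

theorem Filt.of_iso {E E' : X.Modules} {ls : List X.Modules} (h : Filt E ls) (e : E' ≅ E) : Filt E' ls := by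
  cases h with
  | nil h => exact .nil (h.of_iso e)
  | cons a b hab hex hL h =>
    obtain ⟨hab', hex'⟩ := shortExact_congr hex (Iso.refl _) e
    exact .cons _ _ hab' hex' hL h

theorem filt_of_fin : ∀ (r : ℕ) (F : Fin (r + 1) → X.Modules) (ι : ∀ i : Fin r, F i.castSucc ⟶ F i.succ),
    IsZero (F 0) → (∀ i : Fin r, Mono (ι i) ∧ PicF.IsInvertible (cokernel (ι i))) →
    ∃ ls : List X.Modules, ls.length = r ∧ Filt (F (Fin.last r)) ls := by
  intro r
  induction r with
  | zero => exact fun F _ h _ => ⟨[], rfl, .nil h⟩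
  | succ r ih =>
    intro F ι h hι
    obtain ⟨ls, hlen, hf⟩ := ih (fun i => F i.castSucc) (fun i => ι i.castSucc) h fun i => hι i.castSucc
    haveI := (hι (Fin.last r)).1
    exact ⟨cokernel (ι (Fin.last r)) :: ls, by simp [hlen],
      .cons (ι (Fin.last r)) (cokernel.π _) (cokernel.condition _)
        { exact := ShortComplex.exact_of_g_is_cokernel _ (cokernelIsCokernel _) } (hι (Fin.last r)).2 hf⟩

theorem Filt.exists_fin {E : X.Modules} {ls : List X.Modules} (h : Filt E ls) :
    ∃ (M : Fin (ls.length + 1) → X.Modules) (a : ∀ i : Fin ls.length, M i.castSucc ⟶ M i.succ)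
      (b : ∀ i : Fin ls.length, M i.succ ⟶ ls.get i.rev) (hab : ∀ i, a i ≫ b i = 0),
      IsZero (M 0) ∧ Nonempty (M (Fin.last ls.length) ≅ E) ∧
        ∀ i, (ShortComplex.mk (a i) (b i) (hab i)).ShortExact := by
  induction h with
  | nil h => exact ⟨fun _ => _, fun i => i.elim0, fun i => i.elim0, fun i => i.elim0, h, ⟨Iso.refl _⟩, fun i => i.elim0⟩
  | @cons E M₀ L ls a b hab hex hL h ih =>
    obtain ⟨M, a', b', hab', h0, ⟨e⟩, hex'⟩ := ih
    let N : Fin (ls.length + 1 + 1) → X.Modules := Fin.snoc M E
    have key : ∀ i : Fin (ls.length + 1), ∃ (f : N i.castSucc ⟶ N i.succ) (g : N i.succ ⟶ (L :: ls).get i.rev)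
        (hfg : f ≫ g = 0), (ShortComplex.mk f g hfg).ShortExact := by
      intro i
      induction i using Fin.lastCases with
      | last =>
        have e1 : N (Fin.last ls.length).castSucc = M (Fin.last ls.length) := Fin.snoc_castSucc _ _ _
        have e2 : N (Fin.last ls.length).succ = E := by rw [Fin.succ_last]; exact Fin.snoc_last _ _
        have e3 : L = (L :: ls).get (Fin.last ls.length).rev := by rw [Fin.rev_last]; rfl
        obtain ⟨h', hx⟩ := shortExact_congr hex (eqToIso e1 ≪≫ e) (eqToIso e2)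
        refine ⟨_, ((eqToIso e2).hom ≫ b) ≫ eqToHom e3, by rw [← Category.assoc, h', zero_comp], ?_⟩
        exact ShortComplex.shortExact_of_iso (ShortComplex.isoMk (Iso.refl _) (Iso.refl _) (eqToIso e3)
          (by simp) (by simp) : ShortComplex.mk _ _ h' ≅ ShortComplex.mk _ ((_ ≫ _) ≫ eqToHom e3) _) hx
      | cast i =>
        have e1 : N i.castSucc.castSucc = M i.castSucc := Fin.snoc_castSucc _ _ _
        have e2 : N i.castSucc.succ = M i.succ := by rw [Fin.succ_castSucc]; exact Fin.snoc_castSucc _ _ _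
        have e3 : ls.get i.rev = (L :: ls).get i.castSucc.rev := by rw [Fin.rev_castSucc]; rfl
        obtain ⟨h', hx⟩ := shortExact_congr (hex' i) (eqToIso e1) (eqToIso e2)
        refine ⟨_, ((eqToIso e2).hom ≫ b' i) ≫ eqToHom e3, by rw [← Category.assoc, h', zero_comp], ?_⟩
        exact ShortComplex.shortExact_of_iso (ShortComplex.isoMk (Iso.refl _) (Iso.refl _) (eqToIso e3)
          (by simp) (by simp) : ShortComplex.mk _ _ h' ≅ ShortComplex.mk _ ((_ ≫ _) ≫ eqToHom e3) _) hx
    choose f g hfg hN using key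
    refine ⟨N, f, g, hfg, ?_, ⟨eqToIso (Fin.snoc_last _ _)⟩, hN⟩
    have : N 0 = M 0 := Fin.snoc_castSucc (i := (0 : Fin (ls.length + 1))) _ _
    rw [this]
    exact h0

theorem Filt.pullback {Y : Scheme.{u}} (f : Y ⟶ X) {E : X.Modules} {ls : List X.Modules} (h : Filt E ls) :
    Filt ((Scheme.Modules.pullback f).obj E) (ls.map (Scheme.Modules.pullback f).obj) := by
  induction h with
  | nil h => exact .nil ((Scheme.Modules.pullback f).map_isZero h)
  | @cons E M L ls a b hab hex hL h ih =>
    haveI := hex.mono_f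
    haveI := hex.epi_g
    haveI : PreservesColimitsOfSize.{0, 0} (Scheme.Modules.pullback f) :=
      (Scheme.Modules.pullbackPushforwardAdjunction f).leftAdjoint_preservesColimits
    have e : cokernel a ≅ L := IsColimit.coconePointUniqueUpToIso (cokernelIsCokernel a) hex.gIsCokernel
    haveI : Mono ((Scheme.Modules.pullback f).map a) := EpiLocus.mono_pullback_of_isFinLocFree_cokernel a
      (ProjForm.isFinLocFree_of_isInvertible (PicCl.isInvertible_of_iso e.symm hL)) f
    haveI : Epi ((Scheme.Modules.pullback f).map b) :=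
      (Functor.preservesEpimorphisms_of_adjunction (Scheme.Modules.pullbackPushforwardAdjunction f)).preserves b
    refine .cons ((Scheme.Modules.pullback f).map a) ((Scheme.Modules.pullback f).map b)
      (by rw [← Functor.map_comp, hab, Functor.map_zero]) ?_ (PicCl.isInvertible_pullback f hL) ih
    exact { exact := ShortComplex.exact_of_g_is_cokernel _
              (isColimitCoforkMapOfIsColimit' (Scheme.Modules.pullback f) hab hex.gIsCokernel) }

/-- Filtrations of the outer terms of an extension give one of the middle term. -/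
theorem Filt.extension {E₁ E₂ : X.Modules} {l₁ l₂ : List X.Modules} (h₁ : Filt E₁ l₁) (h₂ : Filt E₂ l₂) :
    ∀ {E : X.Modules} (a : E₁ ⟶ E) (b : E ⟶ E₂) (hab : a ≫ b = 0),
      (ShortComplex.mk a b hab).ShortExact → Filt E (l₂ ++ l₁) := by
  induction h₂ with
  | @nil E₂ h =>
    intro E a b hab hex
    haveI := hex.mono_f
    haveI : Epi a := hex.exact.epi_f (h.eq_of_tgt b 0)
    haveI : IsIso a := isIso_of_mono_of_epi a
    exact h₁.of_iso (asIso a).symm
  | @cons E₂ M L ls a₂ b₂ hab₂ hex₂ hL h ih =>
    intro E a b hab hex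
    haveI := hex.mono_f
    haveI := hex.epi_g
    haveI := hex₂.mono_f
    haveI := hex₂.epi_g
    let K : X.Modules := Limits.pullback b a₂
    have hj : a ≫ b = (0 : E₁ ⟶ M) ≫ a₂ := by rw [hab, zero_comp]
    let a' : E₁ ⟶ K := Limits.pullback.lift a 0 hj
    have ha' : a' ≫ Limits.pullback.snd b a₂ = 0 := Limits.pullback.lift_snd _ _ _
    haveI : Mono a' := by
      have h' : a' ≫ Limits.pullback.fst b a₂ = a := Limits.pullback.lift_fst _ _ _
      exact mono_of_mono_fac h'
    have hK : (ShortComplex.mk a' (Limits.pullback.snd b a₂) ha').ShortExact :=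
      { exact := ShortComplex.exact_of_f_is_kernel _ (KernelFork.IsLimit.ofι' a' ha' fun {W} g hg =>
          have hg0 : (g ≫ Limits.pullback.fst b a₂) ≫ b = 0 := by
            rw [Category.assoc, Limits.pullback.condition, ← Category.assoc, hg, zero_comp]
          ⟨hex.exact.lift (g ≫ Limits.pullback.fst b a₂) hg0, Limits.pullback.hom_ext
            (by rw [Category.assoc, Limits.pullback.lift_fst]; exact hex.exact.lift_f _ _)
            (by rw [Category.assoc, Limits.pullback.lift_snd, comp_zero, hg])⟩) }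
    have hc : Limits.pullback.fst b a₂ ≫ b ≫ b₂ = 0 := by
      rw [Limits.pullback.condition_assoc, hab₂, comp_zero]
    have hE : (ShortComplex.mk (Limits.pullback.fst b a₂) (b ≫ b₂) hc).ShortExact :=
      { exact := ShortComplex.exact_of_f_is_kernel _ (KernelFork.IsLimit.ofι' _ hc fun {W} g hg =>
          have hg0 : (g ≫ b) ≫ b₂ = 0 := by rw [Category.assoc, hg]
          ⟨Limits.pullback.lift g (hex₂.exact.lift (g ≫ b) hg0) (hex₂.exact.lift_f _ _).symm,
            Limits.pullback.lift_fst _ _ _⟩) }
    exact .cons (Limits.pullback.fst b a₂) (b ≫ b₂) hc hE hL (ih a' _ ha' hK)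

end Groth.Agent.CycLib.ChowOp
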