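import Groth.Agent.CycLib.ChowOp.Pull
import Groth.Agent.CycLib.ChowOp.Filt
import Groth.Agent.CycLib.VecBdl.SplittingGen
import Mathlib.RingTheory.MvPolynomial.Symmetric.Defs

/-!
Chern class caps as elementary symmetric functions of first Chern class operators.
-/

set_option autoImplicit false
set_option linter.style.haveILetI false
set_option maxHeartbeats 800000

universe u

open CategoryTheory Limits AlgebraicGeometry

noncomputable section

namespace Groth.Agent.CycLib.ChowOp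

open Groth.Agent.CycLib.Dev

variable {X : Scheme.{u}} [IsLocallyNoetherian X] {δ : X → ℤ} (hd : Cyc.IsDimFun X δ)

open Classical in
/-- `c₁(L)` in the ring of operators, zero if `L` is not invertible. -/
def c1of (L : X.Modules) : opRing hd := if h : PicF.IsInvertible L then c1R hd h else 0

/-- The elementary symmetric function of the first Chern classes of a list of line bundles. -/
def esym (ls : List X.Modules) (n : ℕ) : opRing hd := ((ls.map (c1of hd) : List (opRing hd)) : Multiset (opRing hd)).esymm n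

theorem c1of_cls {L : X.Modules} (hL : PicF.IsInvertible L) {k : ℤ} {a : X → ℤ} (ha : IsCyc δ k a)
    (s : (ξ : X) → Cyc.secFibre L ξ) (hs : ∀ ξ, s ξ ≠ 0) :
    (c1of hd L).1 (cls hd k a) = cls hd (k - 1) (Cyc.c1CapFun δ L a s) := by
  rw [c1of, dif_pos hL]
  exact c1op_cls hd hL ha s hs

theorem exists_rep {ι : Type*} (S : Finset ι) (L : ι → X.Modules) (hL : ∀ i ∈ S, PicF.IsInvertible (L i))
    {k : ℤ} {a : X → ℤ} (ha : IsCyc δ k a) :
    ∃ z : X → ℤ, IsCyc δ (k - S.card) z ∧ (∏ i ∈ S, c1of hd (L i) : opRing hd).1 (cls hd k a) = cls hd (k - S.card) z := by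
  classical
  induction S using Finset.induction_on with
  | empty => exact ⟨a, by simpa using ha, by simp⟩
  | insert i S hi ih =>
    obtain ⟨z, hz, hze⟩ := ih fun j hj => hL j (Finset.mem_insert_of_mem hj)
    have hLi := hL i (Finset.mem_insert_self i S)
    rw [show k - (S.card : ℤ) = k - ((insert i S).card : ℤ) + 1 by
      rw [Finset.card_insert_of_notMem hi]; push_cast; ring] at hz hze
    refine ⟨_, isCyc_c1 hd hLi hz _ (sec_ne hLi), ?_⟩
    rw [Finset.prod_insert hi]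
    show (c1of hd (L i)).1 ((∏ j ∈ S, c1of hd (L j) : opRing hd).1 (cls hd k a)) = _
    rw [hze, c1of_cls hd hLi hz _ (sec_ne hLi), add_sub_cancel_right]

theorem esym_eq_sum {n : ℕ} (ls : List X.Modules) :
    esym hd ls n = ∑ I ∈ Finset.powersetCard n (Finset.univ : Finset (Fin ls.length)),
      ∏ i ∈ I, c1of hd (ls.get i.rev) := by
  rw [← Finset.esymm_map_val, esym]
  congr 1
  have h1 : (Finset.univ : Finset (Fin ls.length)).val.map Fin.rev = (Finset.univ : Finset (Fin ls.length)).val :=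
    congrArg Finset.val (Finset.map_univ_equiv (Fin.revPerm (n := ls.length)))
  conv_rhs => rw [show (fun i : Fin ls.length => c1of hd (ls.get i.rev)) =
      (fun i => c1of hd (ls.get i)) ∘ Fin.rev from rfl, ← Multiset.map_map, h1, Fin.univ_val_map]
  rw [← List.ofFn_get (ls.map (c1of hd))]
  simp [List.ofFn_eq_map]

theorem sum_apply_op {ι : Type*} (S : Finset ι) (T : ι → opRing hd) (x : Tot hd) :
    (∑ i ∈ S, T i : opRing hd).1 x = ∑ i ∈ S, (T i).1 x := by
  rw [AddSubmonoidClass.coe_finsetSum]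
  exact AddMonoidHom.finset_sum_apply _ _ _

variable {P : Scheme.{u}} {p : P ⟶ X} {O1 : P.Modules} {δP : P → ℤ}

/-- Chern class caps of a filtered bundle are elementary symmetric functions of `c₁` operators. -/
theorem chern_eq_of_cov {r : ℕ} (L : ProjBdl.Cov p O1 r) (hr : 1 ≤ r) (hX : Cyc.IsSetup X δ) (hP : Cyc.IsSetup P δP)
    (hδ : Cyc.DeltaCompat p δP δ) [IsProper p] (hinv : PicF.IsInvertible O1) {E : X.Modules}
    (q : (Scheme.Modules.pullback p).obj E ⟶ O1) [Epi q] {ls : List X.Modules} (hlen : ls.length = r)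
    (hf : Filt E ls) {k : ℤ} {α : AlgebraicCycle X ℤ} (hα : α ∈ Cyc.Zk X δ k)
    {γ : Fin (r + 1) → AlgebraicCycle X ℤ} (hγ : Cyc.IsChernCap p δ δP O1 r k α γ) (j : Fin (r + 1)) :
    cls hd (k - ((j : ℕ) : ℤ)) ⇑(γ j) = (esym hd ls j).1 (cls hd k ⇑α) := by
  classical
  subst hlen
  haveI := hP.1
  haveI := L.flat
  obtain ⟨M, a, b, hab, h0, ⟨e⟩, hex⟩ := hf.exists_fin
  have hL : ∀ i : Fin ls.length, PicF.IsInvertible (ls.get i.rev) := fun i => hf.invertible _ (List.get_mem _ _)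
  choose z hz hze using fun I : Finset (Fin ls.length) =>
    exists_rep hd I (fun i => ls.get i.rev) (fun i _ => hL i) (IsCyc.of_cycle α hα)
  choose w hw hwe using fun I : Finset (Fin ls.length) => (hz I).exists_cycle
  let κ : Finset (Fin ls.length) → AlgebraicCycle X ℤ := fun I => if I = ∅ then α else w I
  have hκcls : ∀ I, IsCyc δ (k - (I.card : ℤ)) ⇑(κ I) ∧
      (∏ i ∈ I, c1of hd (ls.get i.rev) : opRing hd).1 (cls hd k ⇑α) = cls hd (k - (I.card : ℤ)) ⇑(κ I) := fun I => by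
    simp only [κ]
    split_ifs with h
    · subst h
      exact ⟨by simpa using IsCyc.of_cycle α hα, by simp⟩
    · rw [hwe I]
      exact ⟨hz I, hze I⟩
  have hs := L.shiftBy hP.2.2 hδ
  have h := L.filtered_isChernCap' hr hX hP.2.2 hδ q hinv M h0 e (fun i => ls.get i.rev) hL a b hab hex k α hα
    (fun i => sec (hL i)) (fun i => sec_ne (hL i)) κ (if_pos rfl) (fun I => (hκcls I).1) fun I i hlt => by
      have hi : i ∉ I := fun h => lt_irrefl i (hlt i h)
      have hc : IsCyc δ (k - (I.card : ℤ) - 1) ⇑(κ (insert i I)) := by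
        convert (hκcls (insert i I)).1 using 1
        rw [Finset.card_insert_of_notMem hi]; push_cast; ring
      have hI : IsCyc δ (k - (I.card : ℤ) - 1 + 1) ⇑(κ I) := by simpa using (hκcls I).1
      have hc' := isCyc_c1 hX.2.2 (hL i) hI _ (sec_ne (hL i))
      have hmem : ⇑(κ (insert i I)) - Cyc.c1CapFun δ (ls.get i.rev) ⇑(κ I) (sec (hL i)) ∈
          prin hX.2.2 (k - (I.card : ℤ) - 1) := by
        rw [← cls_eq_iff hd hc hc']
        have h1 := (hκcls (insert i I)).2
        rw [Finset.prod_insert hi, Finset.card_insert_of_notMem hi,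
          show k - ((I.card + 1 : ℕ) : ℤ) = k - (I.card : ℤ) - 1 by push_cast; ring] at h1
        rw [← h1]
        show (c1of hd (ls.get i.rev)).1 ((∏ j ∈ I, c1of hd (ls.get j.rev) : opRing hd).1 (cls hd k ⇑α)) = _
        rw [(hκcls I).2, c1of_cls hd (hL i) (hκcls I).1 _ (sec_ne (hL i))]
      have hp := ProjBdl.pull_mem (f := p) hP hX hs (hc.sub hc') hmem
      convert hp using 1
      funext x
      show Cyc.pullFun p δP δ _ _ x - Cyc.pullFun p δP δ _ _ x = Cyc.pullFun p δP δ _ _ x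
      simp only [Cyc.pullFun]
      split_ifs
      · show _ = (κ (insert i I) (p x) - _) * _
        rw [sub_mul]
      · rw [sub_zero]
  have hu := L.chern_ratEquiv hr hX hP hδ hinv k α α
    (by rw [Cyc.RatEquiv, ratEquivZero_iff hX.2.2, sub_self]; exact zero_mem _) γ _ hγ h j
  rw [esym_eq_sum, sum_apply_op]
  have hγc := IsCyc.of_cycle _ (hγ.2.1 j)
  have hsc := IsCyc.of_cycle _ (h.2.1 j)
  refine ((cls_eq_iff hd hγc hsc).2 hu).trans ?_
  rw [Function.locallyFinsuppWithin.coe_sum, cls_sum hd _ fun I hI => ?_]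
  · refine Finset.sum_congr rfl fun I hI => ?_
    rw [(hκcls I).2, (Finset.mem_powersetCard.1 hI).2]
  · have := (hκcls I).1
    rwa [(Finset.mem_powersetCard.1 hI).2] at this

/-- Chern class caps of a filtered bundle, in any rank. -/
theorem chern_eq {r : ℕ} {E : X.Modules} (hE : FlatMod.IsFinLocFreeOfRank r E) (hX : Cyc.IsSetup X δ)
    {q : (Scheme.Modules.pullback p).obj E ⟶ O1} (hPB : KRR.IsProjBundle p E O1 q) [IsProper p]
    (hP : Cyc.IsSetup P δP) (hδ : Cyc.DeltaCompat p δP δ) {ls : List X.Modules} (hlen : ls.length = r)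
    (hf : Filt E ls) {k : ℤ} {α : AlgebraicCycle X ℤ} (hα : α ∈ Cyc.Zk X δ k)
    {γ : Fin (r + 1) → AlgebraicCycle X ℤ} (hγ : Cyc.IsChernCap p δ δP O1 r k α γ) (j : Fin (r + 1)) :
    cls hd (k - ((j : ℕ) : ℤ)) ⇑(γ j) = (esym hd ls j).1 (cls hd k ⇑α) := by
  rcases Nat.eq_zero_or_pos r with rfl | hr
  · obtain rfl : j = 0 := Subsingleton.elim (α := Fin 1) j 0
    rw [hγ.1]
    simp [esym, Multiset.esymm]
  · obtain ⟨L⟩ := ProjBdl.exists_cov_of_isProjBundle hPB hr hE
    haveI := hPB.epi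
    exact chern_eq_of_cov hd L hr hX hP hδ (Desc44.ProjBundle.isInvertible_of_rank_one hPB.invertible) q hlen hf hα hγ j

omit hd in
/-- Chern class caps after a flat pull-back which filters the bundle. -/
theorem pull_chern {Y : Scheme.{u}} [IsLocallyNoetherian Y] {δY : Y → ℤ} (hY : Cyc.IsSetup Y δY)
    (hX : Cyc.IsSetup X δ) (f : Y ⟶ X) [Flat f] [LocallyOfFiniteType f] {c : ℕ} (hc : Cyc.HasRelDim f c)
    (hf : Cyc.DeltaCompat f δY δ) (hs : ShiftBy f δY δ (c : ℤ)) {r : ℕ} {E : X.Modules}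
    (hE : FlatMod.IsFinLocFreeOfRank r E) {q : (Scheme.Modules.pullback p).obj E ⟶ O1}
    (hPB : KRR.IsProjBundle p E O1 q) [IsProper p] (hP : Cyc.IsSetup P δP) (hδ : Cyc.DeltaCompat p δP δ)
    {ls : List Y.Modules} (hlen : ls.length = r) (hfl : Filt ((Scheme.Modules.pullback f).obj E) ls)
    {k : ℤ} {α : AlgebraicCycle X ℤ} (hα : α ∈ Cyc.Zk X δ k)
    {γ : Fin (r + 1) → AlgebraicCycle X ℤ} (hγ : Cyc.IsChernCap p δ δP O1 r k α γ) (j : Fin (r + 1)) :
    pull hY hX f hs (cls hX.2.2 (k - ((j : ℕ) : ℤ)) ⇑(γ j)) =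
      (esym hY.2.2 ls j).1 (pull hY hX f hs (cls hX.2.2 k ⇑α)) := by
  rcases Nat.eq_zero_or_pos r with rfl | hr
  · obtain rfl : j = 0 := Subsingleton.elim (α := Fin 1) j 0
    rw [hγ.1]
    simp [esym, Multiset.esymm]
  · have hcα := ShiftC1.isCyc_pull f hY.2.2 hs (IsCyc.of_cycle α hα)
    obtain ⟨αY, hαY, hαYe⟩ := hcα.exists_cycle
    choose β hβ hβe using fun i : Fin (r + 1) =>
      (ShiftC1.isCyc_pull f hY.2.2 hs (IsCyc.of_cycle _ (hγ.2.1 i))).exists_cycle
    obtain ⟨δ', hP', hδ'⟩ := VecBdl.exists_setup (Limits.pullback.snd p f) hY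
    have hsq := IsPullback.of_hasPullback p f
    have hcap := ProjBdl.pull_isChernCap hY hX hc hf hPB hE hr hP hδ hsq hP' hδ' k α αY hαYe γ hγ β hβe
    rw [pull_cls hY hX f hs (IsCyc.of_cycle _ (hγ.2.1 j)), pull_cls hY hX f hs (IsCyc.of_cycle α hα),
      ← hβe j, ← hαYe, show k - ((j : ℕ) : ℤ) + c = k + c - ((j : ℕ) : ℤ) by ring]
    exact chern_eq hY.2.2 (ProjBdl.isFinLocFreeOfRank_pullback f hE) hY
      (ProjBdl.isProjBundle_baseChange hPB hsq) hP' hδ' hlen hfl hαY hcap j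

omit hd in
theorem pull_injective {Y : Scheme.{u}} [IsLocallyNoetherian Y] {δY : Y → ℤ} (hY : Cyc.IsSetup Y δY)
    (hX : Cyc.IsSetup X δ) (f : Y ⟶ X) [Flat f] {c : ℤ} (hs : ShiftBy f δY δ c)
    (h : ∀ (d : ℤ) (α : AlgebraicCycle X ℤ), α ∈ Cyc.Zk X δ d → ∀ β : AlgebraicCycle Y ℤ,
      (∀ y : Y, β y = Cyc.pullFun f δY δ c (fun x => α x) y) → Cyc.RatEquivZero δY (d + c) β →
        Cyc.RatEquivZero δ d α) :
    Function.Injective (pull hY hX f hs) := by
  rw [injective_iff_map_eq_zero]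
  intro x hx
  funext m
  obtain ⟨a, ha⟩ := mk_surjective hX.2.2 m (x m)
  obtain ⟨α, hα, hαe⟩ := IsCyc.exists_cycle (show IsCyc δ m a.1 from a.2)
  have hcy := ShiftC1.isCyc_pull f hY.2.2 hs (show IsCyc δ m a.1 from a.2)
  obtain ⟨β, -, hβe⟩ := hcy.exists_cycle
  have h1 := congrFun hx (m + c)
  rw [pull_apply hY hX f hs x rfl, ← ha, pullg_mk, Pi.zero_apply, ← map_zero (mk hY.2.2 (m + c)), mk_eq_iff] at h1
  simp only [AddSubgroup.coe_zero, sub_zero] at h1
  have h2 := h m α hα β (fun y => by rw [hβe, show (fun x => α x) = a.1 from hαe]) (by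
    show (⇑β : Y → ℤ) ∈ prin hY.2.2 (m + c)
    rw [hβe]; exact h1)
  rw [← ha, Pi.zero_apply, ← map_zero (mk hX.2.2 m), mk_eq_iff]
  simp only [AddSubgroup.coe_zero, sub_zero]
  rw [← hαe]
  exact h2

omit hd in
/-- A flat morphism with injective pull-back which filters a given bundle. -/
theorem exists_split (hX : Cyc.IsSetup X δ) {r : ℕ} {E : X.Modules} (hE : FlatMod.IsFinLocFreeOfRank r E) :
    ∃ (Y : Scheme.{u}) (_ : IsLocallyNoetherian Y) (f : Y ⟶ X) (_ : Flat f) (_ : LocallyOfFiniteType f) (c : ℕ)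
      (δY : Y → ℤ) (hY : Cyc.IsSetup Y δY) (hs : ShiftBy f δY δ (c : ℤ)) (ls : List Y.Modules),
      Cyc.HasRelDim f c ∧ Cyc.DeltaCompat f δY δ ∧ Function.Injective (pull hY hX f hs) ∧
        ls.length = r ∧ Filt ((Scheme.Modules.pullback f).obj E) ls := by
  obtain ⟨Y, f, c, δY, hsm, hpr, hc, hY, hf, hinj, F, ι, hF0, ⟨eF⟩, hι⟩ := VecBdl.exists_splitting' r X δ hX E hE
  haveI := hY.1
  haveI := hsm
  haveI := hpr
  have hs : ShiftBy f δY δ (c : ℤ) := fun y hy => delta_eq_of_generic f hf hc y hy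
  obtain ⟨ls, hlen, hfl⟩ := filt_of_fin r F ι hF0 hι
  exact ⟨Y, hY.1, f, inferInstance, inferInstance, c, δY, hY, hs, ls, hc, hf,
    pull_injective hY hX f hs hinj, hlen, hfl.of_iso eF.symm⟩

end Groth.Agent.CycLib.ChowOp
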