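import Groth.Agent.CycLib.ChowOp.Dual
import Groth.Agent.ExtPowSt.Stalk
import Groth.Agent.ExtPowSt.Det
import Groth.Agent.VBLib.Basic
import Mathlib.LinearAlgebra.Basis.Fin

/-!
Determinant line bundles, detected on stalks, and their first Chern classes.
-/

set_option autoImplicit false
set_option linter.style.haveILetI false
set_option maxHeartbeats 800000

universe u

open CategoryTheory Limits AlgebraicGeometry

noncomputable section

namespace Groth.Agent.CycLib.ChowOp

open Groth.Agent.CycLib.Dev Groth.Agent.PullStalk.Sky Groth.Agent.PullStalk.Exact Groth.Agent.PullStalk.Basic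

section Alg

variable {A B : Type*} [CommRing A] [CommRing B] {φ : A →+* B} {M N : Type*} [AddCommGroup M] [Module A M]
  [AddCommGroup N] [Module B N] {r : ℕ}

theorem det_semilinear (g : M →+ N) (hg : ∀ (a : A) (m : M), g (a • m) = φ a • g m)
    (b : Module.Basis (Fin r) A M) (b' : Module.Basis (Fin r) B N) (v : Fin r → M) :
    b'.det (fun i => g (v i)) = φ (b.det v) * b'.det (fun i => g (b i)) := by
  classical
  rw [Module.Basis.det_apply, Module.Basis.det_apply, Module.Basis.det_apply, RingHom.map_det]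
  have h : b'.toMatrix (fun i => g (v i)) = b'.toMatrix (fun i => g (b i)) * φ.mapMatrix (b.toMatrix v) := by
    ext i j
    rw [Module.Basis.toMatrix_apply, Matrix.mul_apply]
    conv_lhs => rw [← b.sum_repr (v j), map_sum, map_sum, Finsupp.finset_sum_apply]
    refine Finset.sum_congr rfl fun k _ => ?_
    rw [hg, map_smul, Finsupp.smul_apply, smul_eq_mul, Module.Basis.toMatrix_apply, RingHom.mapMatrix_apply,
      Matrix.map_apply, Module.Basis.toMatrix_apply, mul_comm]
  rw [h, Matrix.det_mul, mul_comm]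

theorem alternating_eq_det {D : Type*} [AddCommGroup D] [Module A D] (ω : M [⋀^Fin r]→ₗ[A] D)
    (b : Module.Basis (Fin r) A M) (v : Fin r → M) : ω v = b.det v • ω b := by
  classical
  let g : M [⋀^Fin r]→ₗ[A] D := (LinearMap.toSpanSingleton A D (ω b)).compAlternatingMap b.det
  have : ω = g := by
    refine Module.Basis.ext_alternating b fun i h => ?_
    let σ : Equiv.Perm (Fin r) := Equiv.ofBijective i (Finite.injective_iff_bijective.1 h)
    change ω (b ∘ σ) = g (b ∘ σ)
    simp [g, AlternatingMap.map_perm, Module.Basis.det_self]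
  exact congrArg (fun f : M [⋀^Fin r]→ₗ[A] D => f v) this

end Alg

variable {X : Scheme.{u}}

theorem sp_stalkLin {A B : X.Modules} (g : A ⟶ B) {x ξ : X} (h : ξ ⤳ x) (t : A.presheaf.stalk x) :
    Ref1.sp B h (stalkLin g x t) = stalkLin g ξ (Ref1.sp A h t) := by
  obtain ⟨U, hU, m, rfl⟩ := exists_germM_eq A x t
  rw [stalkLin_germ, Ref1.sp_germ B h hU, Ref1.sp_germ A h hU]
  exact (stalkLin_germ g U ξ (h.mem_open U.isOpen hU) m).symm

/-- `D` is the determinant of `E`, stalkwise and compatibly with specialization. -/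
def IsDet (r : ℕ) (E D : X.Modules) : Prop :=
  ∃ ω : ∀ z : X, E.presheaf.stalk z [⋀^Fin r]→ₗ[X.presheaf.stalk z] D.presheaf.stalk z,
    (∀ z, ∃ b : Module.Basis (Fin r) (X.presheaf.stalk z) (E.presheaf.stalk z), IsBas (ω z b)) ∧
      ∀ {x ξ : X} (h : ξ ⤳ x) (v : Fin r → E.presheaf.stalk x),
        Ref1.sp D h (ω x v) = ω ξ (fun i => Ref1.sp E h (v i))

/-- It suffices to check the compatibility on one basis at each point. -/
theorem isDet_mk {r : ℕ} {E D : X.Modules} (b : ∀ z : X, Module.Basis (Fin r) (X.presheaf.stalk z) (E.presheaf.stalk z))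
    (t : ∀ z : X, D.presheaf.stalk z) (ht : ∀ z, IsBas (t z))
    (h : ∀ {x ξ : X} (h : ξ ⤳ x), Ref1.sp D h (t x) = (b ξ).det (fun i => Ref1.sp E h (b x i)) • t ξ) :
    IsDet r E D := by
  classical
  refine ⟨fun z => (LinearMap.toSpanSingleton (X.presheaf.stalk z) _ (t z)).compAlternatingMap (b z).det,
    fun z => ⟨b z, by simpa [Module.Basis.det_self] using ht z⟩, fun {x ξ} hs v => ?_⟩
  show Ref1.sp D hs ((b x).det v • t x) = (b ξ).det (fun i => Ref1.sp E hs (v i)) • t ξ
  rw [Ref1.sp_smul, h hs, det_semilinear (φ := Ref1.spR hs) (Ref1.sp E hs) (Ref1.sp_smul E hs) (b x) (b ξ) v,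
    smul_smul]

variable [IsLocallyNoetherian X] {δ : X → ℤ} (hd : Cyc.IsDimFun X δ)

/-- Two determinants of a module have the same `c₁`. -/
theorem c1of_eq_of_isDet {r : ℕ} {E D D' : X.Modules} (hD : PicF.IsInvertible D) (hD' : PicF.IsInvertible D')
    (h : IsDet r E D) (h' : IsDet r E D') : c1of hd D = c1of hd D' := by
  classical
  obtain ⟨ω, hω, hωs⟩ := h
  obtain ⟨ω', hω', hωs'⟩ := h'
  choose b hb using hω
  have hb' : ∀ z, IsBas (ω' z (b z)) := fun z => by
    obtain ⟨b₁, hb₁⟩ := hω' z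
    rw [alternating_eq_det (ω' z) b₁]
    exact isBas_smul hb₁ (b₁.isUnit_det (b z))
  rw [c1of, dif_pos hD, c1of, dif_pos hD']
  refine Subtype.ext (AddMonoidHom.ext fun x => funext fun m => ?_)
  show c1g hd hD rfl (x (m + 1)) = c1g hd hD' rfl (x (m + 1))
  obtain ⟨a, ha⟩ := mk_surjective hd _ (x (m + 1))
  rw [← ha, c1g_mk hd hD rfl a (fun ξ => Submodule.Quotient.mk (ω ξ (b ξ))) (fun ξ => mk_ne_zero_of_isBas (hb ξ)),
    c1g_mk hd hD' rfl a (fun ξ => Submodule.Quotient.mk (ω' ξ (b ξ))) (fun ξ => mk_ne_zero_of_isBas (hb' ξ))]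
  refine congrArg (mk hd m) (Subtype.ext (funext fun y => ?_))
  show Cyc.c1CapFun δ D a.1 _ y = Cyc.c1CapFun δ D' a.1 _ y
  rw [Cyc.c1CapFun, Cyc.c1CapFun]
  refine finsum_congr fun ξ => congrArg (a.1 ξ * ·) ?_
  by_cases hy : ξ ⤳ y ∧ δ y + 1 = δ ξ
  swap
  · rw [Cyc.secDivFun, dif_neg hy, Cyc.secDivFun, dif_neg hy]
  obtain ⟨hsp, h1⟩ := hy
  rw [secDivFun_of_bas hd hD hsp rfl h1.symm (hb ξ) (hb y)
      (c := (b ξ).det (fun i => Ref1.sp E hsp (b y i))) (by rw [hωs hsp, alternating_eq_det (ω ξ) (b ξ)]),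
    secDivFun_of_bas hd hD' hsp rfl h1.symm (hb' ξ) (hb' y)
      (c := (b ξ).det (fun i => Ref1.sp E hsp (b y i))) (by rw [hωs' hsp, alternating_eq_det (ω' ξ) (b ξ)])]

omit [IsLocallyNoetherian X]

/-- An exterior power of top degree is a determinant. -/
theorem isDet_extPow {r : ℕ} {E L : X.Modules} (hE : FlatMod.IsFinLocFreeOfRank r E) (hL : ExtPow.IsExtPow r E L) :
    IsDet r E L := by
  classical
  haveI := PerfTri.Betti.isQuasicoherent_of_isFinLocFree (isFinLocFree_of_rank hE)
  obtain ⟨φ, hφ⟩ := hL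
  let Φ : ExtPowSt.Sys r E L := ⟨φ, hφ⟩
  refine ⟨fun z => (ExtPowSt.stalkEquiv Φ z).symm.toLinearMap.compAlternatingMap
    (exteriorPower.ιMulti (X.presheaf.stalk z) r), fun z => ?_, fun {x ξ} h v => ?_⟩
  · obtain ⟨U, hz, ⟨ψ⟩⟩ := hE z
    obtain ⟨e, he⟩ := VBLib.exists_isFrame_of_iso ψ
    let b : Module.Basis (Fin r) (X.presheaf.stalk z) (E.presheaf.stalk z) :=
      Module.Basis.ofEquivFun (LinearEquiv.ofBijective (LFFrame.stalkComb E e z hz)
        (he.stalkComb_bijective z hz)).symm
    refine ⟨b, ?_⟩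
    show Function.Bijective (LinearMap.toSpanSingleton (X.presheaf.stalk z) (L.presheaf.stalk z)
      ((ExtPowSt.stalkEquiv Φ z).symm (exteriorPower.ιMulti _ r b)))
    have h := (ExtPowSt.stalkEquiv Φ z).symm.bijective.comp (ExtPowSt.bijective_smul_ιMulti b)
    convert h using 1
    funext c
    exact ((ExtPowSt.stalkEquiv Φ z).symm.map_smul c _).symm
  · refine (ExtPowSt.stalkEquiv Φ ξ).injective ?_
    show ExtPowSt.stalkEquiv Φ ξ (Ref1.sp L h ((ExtPowSt.stalkEquiv Φ x).symm (exteriorPower.ιMulti _ r v))) =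
      ExtPowSt.stalkEquiv Φ ξ ((ExtPowSt.stalkEquiv Φ ξ).symm (exteriorPower.ιMulti _ r fun i => Ref1.sp E h (v i)))
    rw [LinearEquiv.apply_symm_apply, ExtPowSt.stalkEquiv_sp, LinearEquiv.apply_symm_apply, ExtPowSt.extσ_ιMulti]
    rfl

/-- Determinants pull back. -/
theorem IsDet.pullback {Y : Scheme.{u}} (f : Y ⟶ X) {r : ℕ} {E D : X.Modules} (h : IsDet r E D) :
    IsDet r ((Scheme.Modules.pullback f).obj E) ((Scheme.Modules.pullback f).obj D) := by
  classical
  obtain ⟨ω, hω, hωs⟩ := h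
  choose b hb using hω
  have sp_unit : ∀ (M : X.Modules) {y η : Y} (hs : η ⤳ y) (a : M.presheaf.stalk (f y)),
      Ref1.sp ((Scheme.Modules.pullback f).obj M) hs (unitStalkHom f M y a) =
        unitStalkHom f M η (Ref1.sp M (hs.map f.continuous) a) := by
    intro M y η hs a
    obtain ⟨U, hU, m, rfl⟩ := exists_germM_eq M (f y) a
    rw [unitStalkHom_germ, Ref1.sp_germ _ hs hU, Ref1.sp_germ M _ hU, unitStalkHom_germ]
  have hex : ∀ y : Y, ∃ b' : Module.Basis (Fin r) (Y.presheaf.stalk y)
      (((Scheme.Modules.pullback f).obj E).presheaf.stalk y),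
      (∀ i, b' i = unitStalkHom f E y (b (f y) i)) ∧ IsBas (unitStalkHom f D y (ω (f y) (b (f y)))) := fun y => by
    let := (f.stalkMap y).hom.toAlgebra
    let := moduleOver f E y
    let := moduleOver f D y
    have : IsScalarTower (X.presheaf.stalk (f y)) (Y.presheaf.stalk y)
        (((Scheme.Modules.pullback f).obj E).presheaf.stalk y) := IsScalarTower.of_algebraMap_smul fun _ _ => rfl
    have : IsScalarTower (X.presheaf.stalk (f y)) (Y.presheaf.stalk y)
        (((Scheme.Modules.pullback f).obj D).presheaf.stalk y) := IsScalarTower.of_algebraMap_smul fun _ _ => rfl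
    refine ⟨(Algebra.TensorProduct.basis (Y.presheaf.stalk y) (b (f y))).map (isBaseChange_unitStalk f E y).equiv,
      fun i => ?_, ?_⟩
    · simp only [Module.Basis.map_apply, Algebra.TensorProduct.basis_apply, IsBaseChange.equiv_tmul, one_smul]
      rfl
    · let u := (Module.Basis.singleton PUnit.{1} (X.presheaf.stalk (f y))).map
        (LinearEquiv.ofBijective _ (hb (f y)))
      let uY := (Algebra.TensorProduct.basis (Y.presheaf.stalk y) u).map (isBaseChange_unitStalk f D y).equiv
      have hu : uY PUnit.unit = unitStalkHom f D y (ω (f y) (b (f y))) := by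
        simp only [uY, u, Module.Basis.map_apply, Algebra.TensorProduct.basis_apply, IsBaseChange.equiv_tmul, one_smul,
          Module.Basis.singleton_apply, LinearEquiv.ofBijective_apply, LinearMap.toSpanSingleton_apply]
        rfl
      show Function.Bijective _
      have hbij := (uY.equivFun.symm.bijective).comp
        (Equiv.funUnique PUnit.{1} (Y.presheaf.stalk y)).symm.bijective
      convert hbij using 1
      funext c
      simp [Module.Basis.equivFun_symm_apply, hu]
  choose b' hb' ht using hex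
  refine isDet_mk b' (fun y => unitStalkHom f D y (ω (f y) (b (f y)))) ht fun {y η} hs => ?_
  have hm : η ⤳ y := hs
  rw [sp_unit D hs, hωs, alternating_eq_det (ω (f η)) (b (f η)), unitStalkHom_smul]
  congr 1
  have e : (fun i => Ref1.sp ((Scheme.Modules.pullback f).obj E) hs (b' y i)) =
      fun i => unitStalkHom f E η (Ref1.sp E (hs.map f.continuous) (b (f y) i)) :=
    funext fun i => by rw [hb', sp_unit E hs]
  rw [e, det_semilinear (φ := (f.stalkMap η).hom) (unitStalkHom f E η).hom (unitStalkHom_smul f E η) (b (f η)) (b' η),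
    show (fun i => (unitStalkHom f E η).hom (b (f η) i)) = ⇑(b' η) from funext fun i => (hb' η i).symm,
    Module.Basis.det_self, mul_one]

end Groth.Agent.CycLib.ChowOp
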