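import Groth.Agent.CycLib.ChowOp.Tensor

/-!
The first two Chern classes of a tensor product, as symmetric function identities.
-/

set_option autoImplicit false
set_option linter.style.haveILetI false
set_option maxHeartbeats 800000

universe u

open CategoryTheory Limits AlgebraicGeometry

noncomputable section

namespace Groth.Agent.CycLib.ChowOp

theorem esymm_one' {R : Type*} [CommSemiring R] (s : Multiset R) : s.esymm 1 = s.sum := by
  simp [Multiset.esymm, Multiset.powersetCard_one]

theorem esymm_zero' {R : Type*} [CommSemiring R] (s : Multiset R) : s.esymm 0 = 1 := by simp [Multiset.esymm]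

theorem esymm_one_map_add {R : Type*} [CommRing R] (y : R) (s : Multiset R) :
    (s.map (· + y)).esymm 1 = s.esymm 1 + (s.card : R) * y := by
  simp [esymm_one', Multiset.sum_map_add]

theorem esymm_two_map_add {R : Type*} [CommRing R] (y : R) (s : Multiset R) :
    (s.map (· + y)).esymm 2 = s.esymm 2 + ((s.card : R) - 1) * y * s.esymm 1 + (s.card.choose 2 : R) * y ^ 2 := by
  induction s using Multiset.induction_on with
  | empty => simp [Multiset.esymm]
  | cons x s ih =>
    rw [Multiset.map_cons, esymm_cons, esymm_cons x s 1, ih, esymm_one_map_add, Multiset.card_cons,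
      Nat.choose_succ_succ', Nat.choose_one_right, esymm_cons x s 0, esymm_zero']
    push_cast
    ring

/-- The sums `a + b` for `a` in the first and `b` in the second multiset. -/
def sums {R : Type*} [Add R] (s t : Multiset R) : Multiset R := s.bind fun a => t.map (· + a)

theorem esymm_one_sums {R : Type*} [CommRing R] (s t : Multiset R) :
    (sums s t).esymm 1 = (s.card : R) * t.esymm 1 + (t.card : R) * s.esymm 1 := by
  induction s using Multiset.induction_on with
  | empty => simp [sums, esymm_one']
  | cons a s ih =>
    rw [sums, Multiset.cons_bind, esymm_one', Multiset.sum_add, ← esymm_one', ← esymm_one',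
      esymm_one_map_add, show (s.bind fun a => t.map (· + a)).esymm 1 = _ from ih, Multiset.card_cons, esymm_cons,
      esymm_zero']
    push_cast
    ring

theorem esymm_two_add {R : Type*} [CommSemiring R] (s t : Multiset R) :
    (s + t).esymm 2 = s.esymm 2 + s.esymm 1 * t.esymm 1 + t.esymm 2 := by
  induction s using Multiset.induction_on with
  | empty => simp [esymm_zero', Multiset.esymm]
  | cons a s ih =>
    rw [Multiset.cons_add, esymm_cons, ih, esymm_cons a s 1, esymm_one' (s + t), Multiset.sum_add, ← esymm_one',
      ← esymm_one', esymm_cons a s 0, esymm_zero']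
    ring

theorem cast_sq_eq {R : Type*} [CommRing R] (n : ℕ) : (n : R) ^ 2 = n + 2 * (n.choose 2 : R) := by
  induction n with
  | zero => simp
  | succ n ih =>
    rw [Nat.choose_succ_succ', Nat.choose_one_right]
    push_cast
    linear_combination ih

theorem esymm_two_sums {R : Type*} [CommRing R] (s t : Multiset R) :
    (sums s t).esymm 2 = (s.card : R) * t.esymm 2 + (t.card : R) * s.esymm 2 +
      (s.card.choose 2 : R) * t.esymm 1 ^ 2 + ((s.card : R) * t.card - 1) * (t.esymm 1 * s.esymm 1) +
      (t.card.choose 2 : R) * s.esymm 1 ^ 2 := by
  induction s using Multiset.induction_on with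
  | empty => simp [sums, Multiset.esymm, Multiset.powersetCard_one]
  | cons a s ih =>
    rw [sums, Multiset.cons_bind, esymm_two_add, esymm_two_map_add, esymm_one_map_add,
      show (s.bind fun a => t.map (· + a)).esymm 1 = _ from esymm_one_sums s t,
      show (s.bind fun a => t.map (· + a)).esymm 2 = _ from ih, Multiset.card_cons, esymm_cons, esymm_cons a s 0,
      esymm_zero', Nat.choose_succ_succ', Nat.choose_one_right]
    push_cast
    linear_combination (a * s.esymm 1) * cast_sq_eq (R := R) t.card

variable {X : Scheme.{u}} [IsLocallyNoetherian X] {δ : X → ℤ} (hd : Cyc.IsDimFun X δ)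

theorem esym_tensor {ls ms : List X.Modules} (h : ∀ N ∈ ls, PicF.IsInvertible N)
    (h' : ∀ N ∈ ms, PicF.IsInvertible N) (n : ℕ) :
    esym hd (ls.flatMap fun L => ms.map (CohB1.tensorMod · L)) n =
      (sums ((ls.map (c1of hd) : List (opRing hd)) : Multiset (opRing hd))
        ((ms.map (c1of hd) : List (opRing hd)) : Multiset (opRing hd))).esymm n := by
  have e : (ls.flatMap fun L => ms.map (CohB1.tensorMod · L)).map (c1of hd) =
      (ls.map (c1of hd)).flatMap fun a => (ms.map (c1of hd)).map (· + a) := by
    induction ls with
    | nil => rfl
    | cons L ls ih =>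
      rw [List.flatMap_cons, List.map_append, map_c1of_tensor hd (h L List.mem_cons_self) h',
        ih fun N hN => h N (List.mem_cons_of_mem _ hN), List.map_cons, List.flatMap_cons]
  simp only [esym, sums, e, Multiset.map_coe, Multiset.coe_bind]

end Groth.Agent.CycLib.ChowOp
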