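import Groth.Agent.CycLib.ChowOp.Det
import Groth.Agent.CycLib.ChowOp.Tensor2
import Groth.Agent.LFDesc.Invertible

/-!
The determinant of a filtered module is the tensor product of the graded pieces.
-/

set_option autoImplicit false
set_option linter.style.haveILetI false
set_option maxHeartbeats 800000

universe u

open CategoryTheory Limits AlgebraicGeometry

noncomputable section

namespace Groth.Agent.CycLib.ChowOp

open Groth.Agent.CycLib.Dev Groth.Agent.PullStalk.Sky Groth.Agent.PullStalk.Exact

section Alg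

variable {R M E N : Type*} [CommRing R] [AddCommGroup M] [Module R M] [AddCommGroup E] [Module R E]
  [AddCommGroup N] [Module R N] {n : ℕ}

/-- An adapted basis of an extension. -/
theorem exists_adapted {a : M →ₗ[R] E} {b : E →ₗ[R] N} (ha : Function.Injective a) (hex : Function.Exact a b)
    {ν : N} (hν : Function.Bijective (LinearMap.toSpanSingleton R N ν)) {u : E} (hu : b u = ν)
    (m : Module.Basis (Fin n) R M) :
    ∃ e : Module.Basis (Fin (n + 1)) R E, e 0 = u ∧ (∀ i, e i.succ = a (m i)) ∧
      ∀ (c : R) (w : E) (v : Fin n → M), b w = c • ν → e.det (Fin.cons w (fun i => a (v i))) = c * m.det v := by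
  classical
  let bR := m.map (LinearEquiv.ofInjective a ha)
  let e := Module.Basis.mkFinCons u bR (fun c x hx h => by
    obtain ⟨y, rfl⟩ := hx
    have h' : c • ν = 0 := by
      have := congrArg b h
      rwa [map_add, map_smul, hu, hex.apply_apply_eq_zero, add_zero, map_zero] at this
    exact hν.1 (show c • ν = (0 : R) • ν by rw [h', zero_smul]))
    (fun z => by
      obtain ⟨c, hc⟩ := hν.2 (b z)
      refine ⟨-c, (hex _).1 ?_⟩
      rw [map_add, map_smul, hu, neg_smul]
      exact add_neg_eq_zero.2 hc.symm)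
  have he0 : e 0 = u := by simp [e, Module.Basis.coe_mkFinCons]
  have hes : ∀ i, e i.succ = a (m i) := fun i => by simp [e, bR, Module.Basis.coe_mkFinCons]
  refine ⟨e, he0, hes, fun c w v hw => ?_⟩
  have hrepr : ∀ y : M, e.repr (a y) 0 = 0 ∧ ∀ i, e.repr (a y) (Fin.succ i) = m.repr y i := fun y => by
    have key : ∀ j, e.repr (a y) j = ∑ i, m.repr y i * e.repr (e (Fin.succ i)) j := fun j => by
      conv_lhs => rw [← m.sum_repr y, map_sum, map_sum, Finsupp.finset_sum_apply]
      exact Finset.sum_congr rfl fun i _ => by rw [map_smul, map_smul, Finsupp.smul_apply, smul_eq_mul, hes]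
    refine ⟨?_, fun i => ?_⟩
    · rw [key]
      exact Finset.sum_eq_zero fun i _ => by
        rw [Module.Basis.repr_self, Finsupp.single_eq_of_ne (Fin.succ_ne_zero i).symm, mul_zero]
    · rw [key, Finset.sum_eq_single i]
      · rw [Module.Basis.repr_self, Finsupp.single_eq_same, mul_one]
      · intro j _ hj
        rw [Module.Basis.repr_self, Finsupp.single_eq_of_ne (fun h => hj (Fin.succ_injective _ h).symm), mul_zero]
      · exact fun h => absurd (Finset.mem_univ i) h
  have hw0 : e.repr w 0 = c := by
    obtain ⟨y, hy⟩ := (hex (w - c • u)).1 (by rw [map_sub, map_smul, hu, hw, sub_self])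
    have : w = c • u + a y := by rw [hy]; abel
    rw [this, map_add, map_smul, ← he0, Module.Basis.repr_self]
    simp [(hrepr y).1]
  rw [Module.Basis.det_apply, Matrix.det_succ_row_zero, Fin.sum_univ_succ, Finset.sum_eq_zero, add_zero]
  · rw [Module.Basis.det_apply, Module.Basis.toMatrix_apply, Fin.cons_zero, hw0, Fin.val_zero, pow_zero, one_mul,
      Fin.succAbove_zero]
    congr 2
    ext i j
    rw [Matrix.submatrix_apply, Module.Basis.toMatrix_apply, Fin.cons_succ, Module.Basis.toMatrix_apply]
    exact (hrepr (v j)).2 i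
  · intro j _
    rw [Module.Basis.toMatrix_apply, Fin.cons_succ, (hrepr (v j)).1, mul_zero, zero_mul]

end Alg

variable {X : Scheme.{u}}

/-- The tensor product of a list of line bundles. -/
def detL : List X.Modules → X.Modules
  | [] => Coh.structureModule X
  | L :: ls => CohB1.tensorMod L (detL ls)

theorem isInvertible_detL : ∀ {ls : List X.Modules}, (∀ L ∈ ls, PicF.IsInvertible L) → PicF.IsInvertible (detL ls)
  | [], _ => LFFrame.isInvertible_structureModule X
  | _ :: _, h => AmpleLib.isInvertible_tensorMod (h _ List.mem_cons_self)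
      (isInvertible_detL fun L hL => h L (List.mem_cons_of_mem _ hL))

theorem c1of_detL [IsLocallyNoetherian X] {δ : X → ℤ} (hd : Cyc.IsDimFun X δ) :
    ∀ {ls : List X.Modules}, (∀ L ∈ ls, PicF.IsInvertible L) → c1of hd (detL ls) = esym hd ls 1
  | [], _ => by rw [detL, c1of_structureModule, esym_nil]
  | L :: ls, h => by
    rw [detL, c1of_tensor hd (h L List.mem_cons_self) (isInvertible_detL fun M hM => h M (List.mem_cons_of_mem _ hM)),
      c1of_detL hd fun M hM => h M (List.mem_cons_of_mem _ hM), esym_cons, esym_zero, mul_one, add_comm]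

theorem Filt.isDet {E : X.Modules} {ls : List X.Modules} (h : Filt E ls) : IsDet ls.length E (detL ls) := by
  classical
  induction h with
  | @nil E h =>
    show IsDet 0 E (Coh.structureModule X)
    have hs : ∀ z : X, Subsingleton (E.presheaf.stalk z) := fun z => ⟨fun s t => by
      rw [← CohDev.stalkLin_id_apply z s, ← CohDev.stalkLin_id_apply z t, h.eq_of_src (𝟙 E) 0, Omega.Stalks.stalkLin_zero, Omega.Stalks.stalkLin_zero]⟩
    refine isDet_mk (r := 0) (fun z => haveI := hs z; Module.Basis.empty (ι := Fin 0) (E.presheaf.stalk z))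
      oneGerm isBas_oneGerm fun {x ξ} hh => ?_
    rw [sp_oneGerm, Module.Basis.det_apply, Matrix.det_isEmpty, one_smul]
  | @cons E M N ls a b hab hex hN h ih =>
    show IsDet (ls.length + 1) E (CohB1.tensorMod N (detL ls))
    obtain ⟨ω, hω, hωs⟩ := ih
    choose m hm using hω
    choose ν hν using fun z => exists_isBas hN z
    choose u hu using fun z => (stalk_exact hex z).2.2 (ν z)
    choose e he0 hes hdet using fun z => exists_adapted (stalk_exact hex z).1 (stalk_exact hex z).2.1 (hν z) (hu z) (m z)
    refine isDet_mk e (fun z => Dev.mu N (ω z (m z)) (ν z)) (fun z => isBas_map (hν z) _ (Dev.mu_bijective N (hm z)))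
      fun {x ξ} hh => ?_
    obtain ⟨c, hc⟩ := (hν ξ).2 (Ref1.sp N hh (ν x))
    replace hc : c • ν ξ = Ref1.sp N hh (ν x) := hc
    have hv : (fun i => Ref1.sp E hh (e x i)) =
        Fin.cons (Ref1.sp E hh (u x)) (fun i => stalkLin a ξ (Ref1.sp M hh (m x i))) := by
      funext i
      induction i using Fin.cases with
      | zero => rw [he0, Fin.cons_zero]
      | succ i => rw [hes, Fin.cons_succ]; exact sp_stalkLin a hh _
    rw [hv]
    erw [hdet ξ c (Ref1.sp E hh (u x)) (fun i => Ref1.sp M hh (m x i))
      (by rw [← sp_stalkLin b hh]; exact (congrArg (Ref1.sp N hh) (hu x)).trans hc.symm)]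
    refine (Dev.sp_mu (F := N) hh (ω x (m x)) (ν x)).trans ?_
    rw [hωs hh, alternating_eq_det (ω ξ) (m ξ), ← hc, Dev.mu_smul, map_smul, map_smul, smul_smul, mul_comm]

end Groth.Agent.CycLib.ChowOp

namespace Groth.Agent.CycLib.ChowOp

open Groth.Agent.CycLib.Dev Groth.Agent.PullStalk.Sky

/-- A top exterior power of a bundle is invertible. -/
theorem isInvertible_extPow {X : Scheme.{u}} [IsLocallyNoetherian X] {r : ℕ} {E L : X.Modules}
    (hE : FlatMod.IsFinLocFreeOfRank r E) (hL : ExtPow.IsExtPow r E L) : PicF.IsInvertible L := by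
  have hEc := PerfTri.Bounded.isCoh_of_isFinLocFree (isFinLocFree_of_rank hE)
  haveI := hEc.1
  obtain ⟨φ, hφ⟩ := hL
  have hLc := ExtPowSt.isCoh (i := r) (⟨φ, hφ⟩ : ExtPowSt.Sys r E L) hEc
  haveI := hLc.1
  obtain ⟨ω, hω, -⟩ := isDet_extPow hE ⟨φ, hφ⟩
  refine LFDesc.isInvertible_of_stalks L (fun U hU => (QCoh.isFiniteType_iff L).mp hLc.2 U hU) fun x => ?_
  obtain ⟨b, hb⟩ := hω x
  exact ⟨((Module.Basis.singleton (Fin 1) (X.presheaf.stalk x)).map (LinearEquiv.ofBijective _ hb))⟩

end Groth.Agent.CycLib.ChowOp
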