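import Groth.Agent.VBLib.DualDeg
import Groth.Agent.VBLib.Curry
import Groth.Agent.SHomIso.Stalk
import Groth.Agent.KFlat.PullTensor
import Groth.Agent.KFlat.LocFree
import Groth.Agent.EpiLocus.Universal
import Groth.Agent.PullStalk.Basic
import Groth.Agent.PerfTri.Bounded

/-!
Inverse images commute with duals of finite locally free modules.
-/

set_option autoImplicit false
set_option linter.style.haveILetI false
set_option maxHeartbeats 800000

universe u

open CategoryTheory CategoryTheory.Limits AlgebraicGeometry TopologicalSpace Opposite TensorProduct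

noncomputable section

namespace Groth.Agent.CycLib.ChowOp

open Groth.Agent.PullStalk.Sky Groth.Agent.PullStalk.Exact Groth.Agent.QCoh Groth.Agent.PullStalk.Basic
  Groth.Agent.KFlat.StalkTensor Groth.Agent.ExtFilt.Stalkwise

variable {X Y : Scheme.{u}} (f : Y ⟶ X) (E : X.Modules)

/-- The evaluation pairing. -/
def evHom : tensM E (RefHull.dual E) ⟶ Coh.structureModule X :=
  (exists_hom (SHomIso.Basic.loc_evFun E (Coh.structureModule X))).choose

theorem evHom_stalk (x : X) (s : E.presheaf.stalk x) (t : (RefHull.dual E).presheaf.stalk x) :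
    stalkLin (evHom E) x (fromTensor E (RefHull.dual E) x (s ⊗ₜ t)) =
      RefHull.evalStalk E (Coh.structureModule X) x t s := by
  obtain ⟨U, hx, m, g, rfl, rfl⟩ := KFlat.StalkTensor.exists_rep s t
  rw [fromTensor_germ]
  refine ((exists_hom (SHomIso.Basic.loc_evFun E (Coh.structureModule X))).choose_spec x _).trans ?_
  refine (SHomIso.Basic.evFun_tgerm E (Coh.structureModule X) x hx m g).trans ?_
  exact (LinearMap.congr_fun (RefHull.evalStalk_germ E (Coh.structureModule X) x hx g) _).symm

/-- The pulled back pairing. -/
def pairHom : tensM ((Scheme.Modules.pullback f).obj E) ((Scheme.Modules.pullback f).obj (RefHull.dual E)) ⟶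
    Coh.structureModule Y :=
  (KFlat.PullTensor.pullTensorIso f E (RefHull.dual E)).inv ≫ (Scheme.Modules.pullback f).map (evHom E) ≫
    (QCoh.pullbackUnitIso f).hom

/-- The canonical map from the inverse image of the dual to the dual of the inverse image. -/
def pullDual : (Scheme.Modules.pullback f).obj (RefHull.dual E) ⟶ RefHull.dual ((Scheme.Modules.pullback f).obj E) :=
  VBLib.Curry.hom
    (fun U => LinearMap.mk₂ Γ(Y, U) (fun h m => (pairHom f E).app U (tmulSec U m h))
      (fun h h' m => (congrArg ((pairHom f E).app U) (tmulSec_add_right U m h h')).trans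
        (map_add ((pairHom f E).app U).hom _ _))
      (fun r h m => (congrArg ((pairHom f E).app U) (tmulSec_smul_right U r m h)).trans ((pairHom f E).app_smul r _))
      (fun h m m' => (congrArg ((pairHom f E).app U) (tmulSec_add_left U m m' h)).trans
        (map_add ((pairHom f E).app U).hom _ _))
      (fun r h m => (congrArg ((pairHom f E).app U) (tmulSec_smul_left U r m h)).trans ((pairHom f E).app_smul r _)))
    (fun U V h m m' => by
      refine (NatTrans.naturality_apply (pairHom f E).mapPresheaf (homOfLE h).op (tmulSec U m' m)).symm.trans ?_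
      exact congrArg ((pairHom f E).app V) (tmulSec_res (homOfLE h) m' m))

theorem pullDual_eval (y : Y) (s : ((Scheme.Modules.pullback f).obj (RefHull.dual E)).presheaf.stalk y)
    (t : ((Scheme.Modules.pullback f).obj E).presheaf.stalk y) :
    RefHull.evalStalk _ (Coh.structureModule Y) y (stalkLin (pullDual f E) y s) t =
      stalkLin (pairHom f E) y (fromTensor _ _ y (t ⊗ₜ s)) := by
  obtain ⟨U, hy, m, g, rfl, rfl⟩ := KFlat.StalkTensor.exists_rep t s
  rw [fromTensor_germ, stalkLin_germ]
  refine (LinearMap.congr_fun (RefHull.evalStalk_germ _ (Coh.structureModule Y) y hy _) _).trans ?_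
  refine (VBLib.Curry.hom_germ _ _ g ⟨y, hy⟩ U le_rfl hy m).trans ?_
  refine Eq.trans ?_ (stalkLin_germ (pairHom f E) U y hy (tmulSec U m g)).symm
  exact congrArg (fun t => germM _ U y hy ((pairHom f E).app U (tmulSec U m t))) (res_self _ le_rfl g)

theorem stalkLin_inv_hom {A B : Y.Modules} (e : A ≅ B) (y : Y) (z : A.presheaf.stalk y) :
    stalkLin e.inv y (stalkLin e.hom y z) = z :=
  (CohDev.stalkLin_comp_apply e.hom e.inv y z).symm.trans
    ((congrArg (fun φ => stalkLin φ y z) e.hom_inv_id).trans (CohDev.stalkLin_id_apply y z))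

/-- The pulled back pairing on pulled back germs. -/
theorem pairHom_unit (y : Y) (a : E.presheaf.stalk (f y)) (b : (RefHull.dual E).presheaf.stalk (f y)) :
    stalkLin (pairHom f E) y (fromTensor _ _ y (unitStalkHom f E y a ⊗ₜ unitStalkHom f (RefHull.dual E) y b)) =
      stalkLin (QCoh.pullbackUnitIso f).hom y
        (unitStalkHom f (Coh.structureModule X) y (RefHull.evalStalk E (Coh.structureModule X) (f y) b a)) := by
  have h1 := KFlat.PullTensor.stalk_pullTensor_pairing (M := E) (N := RefHull.dual E) f y a b
  refine (congrArg (stalkLin (pairHom f E) y) h1.symm).trans ?_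
  refine (CohDev.stalkLin_comp_apply _ _ _ _).trans ?_
  refine (congrArg (stalkLin _ y) (stalkLin_inv_hom (KFlat.PullTensor.pullTensorIso f E (RefHull.dual E)) y _)).trans ?_
  refine (CohDev.stalkLin_comp_apply _ _ _ _).trans ?_
  refine congrArg (stalkLin (QCoh.pullbackUnitIso f).hom y) ?_
  refine (EpiLocus.stk_unitStalkHom (evHom E) f y _).trans ?_
  exact congrArg (unitStalkHom f (Coh.structureModule X) y) (evHom_stalk E (f y) a b)

/-- The stalk of the structure module is free on the germ of one. -/
def oneBasis (x : X) : Module.Basis PUnit.{1} (X.presheaf.stalk x) ((Coh.structureModule X).presheaf.stalk x) :=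
  (Module.Basis.singleton PUnit.{1} (X.presheaf.stalk x)).map (LinearEquiv.ofBijective
    (LinearMap.toSpanSingleton (X.presheaf.stalk x) _ (germM _ ⊤ x trivial (Props.GenLocus.one' ⊤)))
    (PicLaw.bijective_toSpanSingleton_germ (Props.GenTensor.isGen_one ⊤) x trivial))

variable {f E} in
/-- The inverse image of a dual of a finite locally free module is the dual of the inverse image. -/
theorem isIso_pullDual [IsLocallyNoetherian X] [IsLocallyNoetherian Y] (hE : FlatMod.IsFinLocFree E) :
    IsIso (pullDual f E) := by
  classical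
  refine KFlat.PullTensor.isIso_of_stalk_bijective _ fun y => ?_
  show Function.Bijective (stalkLin (pullDual f E) y)
  obtain ⟨hfree, hfin⟩ := EpiLocus.free_stalk_of_isFinLocFree hE (f y)
  obtain ⟨-, hfin'⟩ := EpiLocus.free_stalk_of_isFinLocFree (KFlat.LocFree.isFinLocFree_pull f hE) y
  haveI := hfree
  haveI := hfin
  haveI := hfin'
  let := (f.stalkMap y).hom.toAlgebra
  let := moduleOver f E y
  let := moduleOver f (RefHull.dual E) y
  let := moduleOver f (Coh.structureModule X) y
  have : IsScalarTower (X.presheaf.stalk (f y)) (Y.presheaf.stalk y)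
      (((Scheme.Modules.pullback f).obj E).presheaf.stalk y) := IsScalarTower.of_algebraMap_smul fun _ _ => rfl
  have : IsScalarTower (X.presheaf.stalk (f y)) (Y.presheaf.stalk y)
      (((Scheme.Modules.pullback f).obj (RefHull.dual E)).presheaf.stalk y) :=
    IsScalarTower.of_algebraMap_smul fun _ _ => rfl
  have : IsScalarTower (X.presheaf.stalk (f y)) (Y.presheaf.stalk y)
      (((Scheme.Modules.pullback f).obj (Coh.structureModule X)).presheaf.stalk y) :=
    IsScalarTower.of_algebraMap_smul fun _ _ => rfl
  -- bases
  let b := Module.Free.chooseBasis (X.presheaf.stalk (f y)) (E.presheaf.stalk (f y))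
  let u := oneBasis (f y)
  let bH := b.linearMap u
  let eD := LinearEquiv.ofBijective (RefHull.evalStalk E (Coh.structureModule X) (f y))
    (VBLib.DualDeg.bijective_evalStalk (PerfTri.Bounded.isCoh_of_isFinLocFree hE) (f y))
  let d := bH.map eD.symm
  let bY := (Algebra.TensorProduct.basis (Y.presheaf.stalk y) b).map (isBaseChange_unitStalk f E y).equiv
  let dY := (Algebra.TensorProduct.basis (Y.presheaf.stalk y) d).map
    (isBaseChange_unitStalk f (RefHull.dual E) y).equiv
  let uY := (((Algebra.TensorProduct.basis (Y.presheaf.stalk y) u).map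
    (isBaseChange_unitStalk f (Coh.structureModule X) y).equiv).map
      (SHomIso.Stalk.stalkIso (QCoh.pullbackUnitIso f) y))
  let eY := LinearEquiv.ofBijective (RefHull.evalStalk _ (Coh.structureModule Y) y)
    (VBLib.DualDeg.bijective_evalStalk
      (PerfTri.Bounded.isCoh_of_isFinLocFree (KFlat.LocFree.isFinLocFree_pull f hE)) y)
  have hmap : ∀ i, eY (stalkLin (pullDual f E) y (dY i)) = bY.linearMap uY i := by
    intro i
    refine bY.ext fun j => ?_
    show RefHull.evalStalk _ (Coh.structureModule Y) y (stalkLin (pullDual f E) y (dY i)) (bY j) = _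
    rw [pullDual_eval, Module.Basis.linearMap_apply_apply]
    simp only [dY, bY, uY, Module.Basis.map_apply, Algebra.TensorProduct.basis_apply, IsBaseChange.equiv_tmul,
      one_smul]
    refine (pairHom_unit f E y (b j) (d i)).trans ?_
    have hd : RefHull.evalStalk E (Coh.structureModule X) (f y) (d i) = bH i := eD.apply_symm_apply _
    rw [hd, Module.Basis.linearMap_apply_apply]
    split_ifs with h
    · rfl
    · erw [map_zero, map_zero]
  have hΛ : eY.toLinearMap ∘ₗ stalkLin (pullDual f E) y = (dY.equiv (bY.linearMap uY) (Equiv.refl _)).toLinearMap :=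
    dY.ext fun i => by rw [LinearEquiv.coe_coe, Module.Basis.equiv_apply]; exact hmap i
  have hb : Function.Bijective (eY.toLinearMap ∘ₗ stalkLin (pullDual f E) y) := by
    rw [hΛ]
    exact LinearEquiv.bijective _
  exact (Function.Bijective.of_comp_iff' eY.bijective _).1 hb

end Groth.Agent.CycLib.ChowOp
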