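import Groth.Agent.CycLib.ChowOp.Tensor
import Groth.Agent.CycLib.ChowOp.PullDual
import Groth.Agent.CohDev.Coh

/-!
Filtrations of duals, and first Chern classes of dual line bundles.
-/

set_option autoImplicit false
set_option linter.style.haveILetI false
set_option maxHeartbeats 800000

universe u

open CategoryTheory Limits AlgebraicGeometry

noncomputable section

namespace Groth.Agent.CycLib.ChowOp

open Groth.Agent.CycLib.Dev Groth.Agent.PullStalk.Sky Groth.Agent.PullStalk.Exact Groth.Agent.VBLib.DualDeg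

theorem esymm_map_neg {R : Type*} [CommRing R] (s : Multiset R) :
    ∀ n : ℕ, (s.map (- ·)).esymm n = (-1) ^ n * s.esymm n := by
  induction s using Multiset.induction_on with
  | empty => intro n; cases n <;> simp [Multiset.esymm]
  | cons a s ih =>
    intro n
    cases n with
    | zero => simp [Multiset.esymm]
    | succ n =>
      rw [Multiset.map_cons, esymm_cons, esymm_cons, ih, ih]
      ring

variable {X : Scheme.{u}}

theorem dualMap_id (A : X.Modules) : dualMap (𝟙 A) = 𝟙 (RefHull.dual A) := by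
  ext U h
  refine Subtype.ext (funext fun x => LinearMap.ext fun t => ?_)
  refine congrArg (h.1 x) ?_
  obtain ⟨W, hW, m, rfl⟩ := exists_germM_eq A x.1 t
  rw [RefHull.stalkMapₗ_germ]
  rfl

theorem dualMap_zero (A B : X.Modules) : dualMap (0 : A ⟶ B) = 0 := by
  ext U h
  refine Subtype.ext (funext fun x => LinearMap.ext fun t => ?_)
  show (h.1 x) (RefHull.stalkMapₗ (0 : A ⟶ B) x.1 t) = 0
  obtain ⟨W, hW, m, rfl⟩ := exists_germM_eq A x.1 t
  rw [RefHull.stalkMapₗ_germ, show (0 : A ⟶ B).app W m = 0 from rfl]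
  exact (congrArg (h.1 x) (map_zero (B.presheaf.germ W x.1 hW).hom)).trans (map_zero (h.1 x))

/-- The dual of an isomorphism. -/
def dualIso {A B : X.Modules} (e : A ≅ B) : RefHull.dual B ≅ RefHull.dual A where
  hom := dualMap e.hom
  inv := dualMap e.inv
  hom_inv_id := by rw [← dualMap_comp, Iso.inv_hom_id, dualMap_id]
  inv_hom_id := by rw [← dualMap_comp, Iso.hom_inv_id, dualMap_id]

variable [IsLocallyNoetherian X]

theorem Filt.isCoh {E : X.Modules} {ls : List X.Modules} (h : Filt E ls) : Coh.IsCoh E := by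
  induction h with
  | nil h => exact CohDev.isCoh_of_isZero h
  | @cons E M L ls a b hab hex hL h ih =>
    exact CohDev.isCoh_of_shortExact hex ih (PerfTri.Bounded.isCoh_of_isFinLocFree
      (ProjForm.isFinLocFree_of_isInvertible hL))

/-- The filtration of the dual. -/
theorem Filt.dual {E : X.Modules} {ls : List X.Modules} (h : Filt E ls) :
    Filt (RefHull.dual E) (ls.map RefHull.dual).reverse := by
  induction h with
  | @nil E h =>
    refine .nil ((IsZero.iff_id_eq_zero _).2 ?_)
    rw [← dualMap_id, h.eq_of_src (𝟙 E) 0, dualMap_zero]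
  | @cons E M L ls a b hab hex hL h ih =>
    rw [List.map_cons, List.reverse_cons]
    have w : dualMap b ≫ dualMap a = 0 := by rw [← dualMap_comp, hab, dualMap_zero]
    exact Filt.extension (Filt.single (invertible_dual hL).1) ih _ _ w
      (shortExact_dual hex h.isCoh (Filt.cons a b hab hex hL h).isCoh (ProjForm.isFinLocFree_of_isInvertible hL) w)

variable {δ : X → ℤ} (hd : Cyc.IsDimFun X δ)

include hd in
theorem secDiv_iso {L N : X.Modules} (e : L ≅ N) (hL : PicF.IsInvertible L) {ξ : X} {σ : L.presheaf.stalk ξ}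
    (hσ : IsBas σ) (x : X) :
    Cyc.secDivFun δ N ξ (Submodule.Quotient.mk (stalkLin e.hom ξ σ)) x =
      Cyc.secDivFun δ L ξ (Submodule.Quotient.mk σ) x := by
  by_cases hx : ξ ⤳ x ∧ δ x + 1 = δ ξ
  swap
  · rw [Cyc.secDivFun, dif_neg hx, Cyc.secDivFun, dif_neg hx]
  obtain ⟨h, h1⟩ := hx
  obtain ⟨t, ht⟩ := exists_isBas hL x
  obtain ⟨c, hc⟩ := hσ.2 (Ref1.sp L h t)
  replace hc : c • σ = Ref1.sp L h t := hc
  have nat : Ref1.sp N h (stalkLin e.hom x t) = stalkLin e.hom ξ (Ref1.sp L h t) := by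
    obtain ⟨U, hU, m, rfl⟩ := exists_germM_eq L x t
    rw [stalkLin_germ, Ref1.sp_germ N h hU, Ref1.sp_germ L h hU]
    exact (stalkLin_germ e.hom U ξ (h.mem_open U.isOpen hU) m).symm
  have hb : ∀ z, Function.Bijective (stalkLin e.hom z) := fun z => (SHomIso.Stalk.stalkIso e z).bijective
  rw [secDivFun_of_bas hd (PicCl.isInvertible_of_iso e hL) h rfl h1.symm
      (isBas_map hσ (stalkLin e.hom ξ) (hb ξ)) (isBas_map ht (stalkLin e.hom x) (hb x))
      (c := c) (by rw [nat, ← hc, map_smul]),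
    secDivFun_of_bas hd hL h rfl h1.symm hσ ht hc.symm]

/-- `c₁` only depends on the isomorphism class. -/
theorem c1of_iso {L N : X.Modules} (e : L ≅ N) (hL : PicF.IsInvertible L) : c1of hd L = c1of hd N := by
  have hN := PicCl.isInvertible_of_iso e hL
  rw [c1of, dif_pos hL, c1of, dif_pos hN]
  refine Subtype.ext (AddMonoidHom.ext fun x => funext fun m => ?_)
  show c1g hd hL rfl (x (m + 1)) = c1g hd hN rfl (x (m + 1))
  obtain ⟨a, ha⟩ := mk_surjective hd _ (x (m + 1))
  choose σ hσ using fun ξ => exists_isBas hL ξ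
  rw [← ha, c1g_mk hd hL rfl a (fun ξ => Submodule.Quotient.mk (σ ξ)) (fun ξ => mk_ne_zero_of_isBas (hσ ξ)),
    c1g_mk hd hN rfl a (fun ξ => Submodule.Quotient.mk (stalkLin e.hom ξ (σ ξ)))
      (fun ξ => mk_ne_zero_of_isBas (isBas_map (hσ ξ) _ (SHomIso.Stalk.stalkIso e ξ).bijective))]
  refine congrArg (mk hd m) (Subtype.ext (funext fun y => ?_))
  show Cyc.c1CapFun δ L a.1 _ y = Cyc.c1CapFun δ N a.1 _ y
  rw [Cyc.c1CapFun, Cyc.c1CapFun]
  exact finsum_congr fun ξ => by rw [secDiv_iso hd e hL (hσ ξ)]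

theorem c1of_dual {L : X.Modules} (hL : PicF.IsInvertible L) : c1of hd (RefHull.dual L) = - c1of hd L := by
  obtain ⟨hD, ⟨e⟩⟩ := invertible_dual hL
  have h := c1of_iso hd e (AmpleLib.isInvertible_tensorMod hL hD)
  rw [c1of_tensor hd hL hD, c1of_structureModule] at h
  exact eq_neg_of_add_eq_zero_right h

theorem esym_dual {ls : List X.Modules} (h : ∀ L ∈ ls, PicF.IsInvertible L) (n : ℕ) :
    esym hd (ls.map RefHull.dual).reverse n = (-1) ^ n * esym hd ls n := by
  rw [esym_perm hd (List.reverse_perm _)]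
  simp only [esym, List.map_map]
  rw [List.map_congr_left (f := c1of hd ∘ RefHull.dual) (g := (- ·) ∘ c1of hd) fun L hL => c1of_dual hd (h L hL),
    ← List.map_map,
    ← Multiset.map_coe, esymm_map_neg]

end Groth.Agent.CycLib.ChowOp
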