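import Groth.Agent.CycLib.DevC1Comm
import Groth.Agent.CycLib.DevC1Tensor
import Groth.Agent.CycLib.ShiftC1
import Mathlib.Algebra.Ring.Subring.Basic

/-!
The first Chern class operators on the graded group of cycles modulo principal cycles.
-/

set_option autoImplicit false
set_option linter.style.haveILetI false
set_option maxHeartbeats 800000

universe u

open CategoryTheory Limits AlgebraicGeometry

noncomputable section

namespace Groth.Agent.CycLib.ChowOp

open Groth.Agent.CycLib.Dev Groth.Agent.PullStalk.Sky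

variable {X : Scheme.{u}}

/-- The functions on points which are cycles of dimension `m`. -/
def cycGrp (δ : X → ℤ) (m : ℤ) : AddSubgroup (X → ℤ) where
  carrier := {a | IsCyc δ m a}
  zero_mem' := ⟨fun U _ => by simp, fun _ _ => rfl⟩
  add_mem' := fun {a b} ha hb => ⟨fun U hU => ((ha.finite U hU).union (hb.finite U hU)).subset fun x hx => by
      by_contra h
      simp only [Set.mem_union, Set.mem_inter_iff, hx.1, true_and, Function.mem_support, not_or, not_not] at h
      exact hx.2 (by show a x + b x = 0; omega),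
    fun x hx => by show a x + b x = 0; rw [ha.zero x hx, hb.zero x hx, add_zero]⟩
  neg_mem' := fun {a} ha => ⟨fun U hU => (ha.finite U hU).subset fun x hx =>
      ⟨hx.1, fun h => hx.2 (by show -a x = 0; rw [h, neg_zero])⟩,
    fun x hx => by show -a x = 0; rw [ha.zero x hx, neg_zero]⟩

variable [IsLocallyNoetherian X] {δ : X → ℤ} (hd : Cyc.IsDimFun X δ)

/-- Cycles of dimension `m` modulo principal cycles. -/
abbrev Grp (m : ℤ) : Type u := cycGrp δ m ⧸ (prin hd m).addSubgroupOf (cycGrp δ m)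

/-- The class of a cycle. -/
def mk (m : ℤ) : cycGrp δ m →+ Grp hd m := QuotientAddGroup.mk' _

theorem mk_eq_iff {m : ℤ} (a b : cycGrp δ m) : mk hd m a = mk hd m b ↔ a.1 - b.1 ∈ prin hd m := by
  show (QuotientAddGroup.mk a : Grp hd m) = QuotientAddGroup.mk b ↔ _
  rw [QuotientAddGroup.eq_iff_sub_mem]
  rfl

theorem mk_surjective (m : ℤ) : Function.Surjective (mk hd m) := QuotientAddGroup.mk'_surjective _

/-- The total group. -/
abbrev Tot : Type u := ∀ m : ℤ, Grp hd m

open Classical in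
/-- The class of `a` in degree `m` (zero unless `a` is a cycle of dimension `m`). -/
def cls (m : ℤ) (a : X → ℤ) : Tot hd := if ha : IsCyc δ m a then Pi.single m (mk hd m ⟨a, ha⟩) else 0

theorem cls_apply {m : ℤ} {a : X → ℤ} (ha : IsCyc δ m a) : cls hd m a m = mk hd m ⟨a, ha⟩ := by
  rw [cls, dif_pos ha, Pi.single_eq_same]

theorem cls_apply_ne {m n : ℤ} (h : n ≠ m) (a : X → ℤ) : cls hd m a n = 0 := by
  rw [cls]
  split_ifs with ha
  · rw [Pi.single_eq_of_ne h]
  · rfl

theorem cls_eq_iff {m : ℤ} {a b : X → ℤ} (ha : IsCyc δ m a) (hb : IsCyc δ m b) :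
    cls hd m a = cls hd m b ↔ a - b ∈ prin hd m := by
  refine ⟨fun h => ?_, fun h => ?_⟩
  · have := congrFun h m
    rwa [cls_apply hd ha, cls_apply hd hb, mk_eq_iff] at this
  · funext n
    rcases eq_or_ne n m with rfl | hne
    · rw [cls_apply hd ha, cls_apply hd hb, mk_eq_iff]
      exact h
    · rw [cls_apply_ne hd hne, cls_apply_ne hd hne]

theorem cls_add {m : ℤ} {a b : X → ℤ} (ha : IsCyc δ m a) (hb : IsCyc δ m b) :
    cls hd m (a + b) = cls hd m a + cls hd m b := by
  funext n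
  rcases eq_or_ne n m with rfl | hne
  · rw [Pi.add_apply, cls_apply hd ha, cls_apply hd hb, cls_apply hd ((cycGrp δ n).add_mem ha hb), ← map_add]
    rfl
  · rw [Pi.add_apply, cls_apply_ne hd hne, cls_apply_ne hd hne, cls_apply_ne hd hne, add_zero]

theorem cls_sum {m : ℤ} {ι : Type*} (S : Finset ι) {a : ι → X → ℤ} (ha : ∀ i ∈ S, IsCyc δ m (a i)) :
    cls hd m (∑ i ∈ S, a i) = ∑ i ∈ S, cls hd m (a i) := by
  classical
  induction S using Finset.induction_on with
  | empty =>
    rw [Finset.sum_empty, Finset.sum_empty]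
    funext n
    rcases eq_or_ne n m with rfl | hne
    · rw [cls_apply hd (cycGrp δ n).zero_mem]
      exact map_zero (mk hd n)
    · exact cls_apply_ne hd hne _
  | insert i S hi ih =>
    have h := ha i (Finset.mem_insert_self i S)
    have h' := fun j hj => ha j (Finset.mem_insert_of_mem hj)
    rw [Finset.sum_insert hi, Finset.sum_insert hi, cls_add hd h ((cycGrp δ m).sum_mem h'), ih h']

theorem cls_zsmul {m : ℤ} (c : ℤ) {a : X → ℤ} (ha : IsCyc δ m a) : cls hd m (c • a) = c • cls hd m a := by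
  funext n
  rcases eq_or_ne n m with rfl | hne
  · rw [Pi.smul_apply, cls_apply hd ha, cls_apply hd ((cycGrp δ n).zsmul_mem ha c), ← map_zsmul]
    rfl
  · rw [Pi.smul_apply, cls_apply_ne hd hne, cls_apply_ne hd hne, smul_zero]

theorem cls_zero (m : ℤ) : cls hd m (0 : X → ℤ) = 0 :=
  cls_sum hd (∅ : Finset ℕ) (m := m) (a := fun _ => (0 : X → ℤ)) (fun i hi => absurd hi (Finset.notMem_empty i))

variable {L : X.Modules} (hL : PicF.IsInvertible L)

/-- A chosen family of nonzero rational sections. -/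
def sec (hL : PicF.IsInvertible L) (ξ : X) : Cyc.secFibre L ξ :=
  Submodule.Quotient.mk (exists_isBas hL ξ).choose

omit [IsLocallyNoetherian X] in
theorem sec_ne (ξ : X) : sec hL ξ ≠ 0 := mk_ne_zero_of_isBas (exists_isBas hL ξ).choose_spec

/-- `c₁(L)` in one degree, on representatives. -/
def c1raw {n m : ℤ} (h : n = m + 1) : cycGrp δ n →+ Grp hd m :=
  AddMonoidHom.ofMapSub
    (fun a => mk hd m ⟨Cyc.c1CapFun δ L a.1 (sec hL), isCyc_c1 hd hL (h ▸ a.2) _ (sec_ne hL)⟩)
    fun a b => by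
      rw [← map_sub]
      congr 1
      exact Subtype.ext (c1_sub (h ▸ a.2 : IsCyc δ (m + 1) a.1) (h ▸ b.2) _)

theorem c1raw_ker {n m : ℤ} (h : n = m + 1) :
    (prin hd n).addSubgroupOf (cycGrp δ n) ≤ (c1raw hd hL h).ker := fun a ha => by
  subst h
  show mk hd m _ = 0
  rw [← map_zero (mk hd m), mk_eq_iff]
  simp only [AddSubgroup.coe_zero, sub_zero]
  exact c1_mem_of_ratEquivZero hd hL a.2 ha _ (sec_ne hL)

/-- `c₁(L)` in one degree. -/
def c1g {n m : ℤ} (h : n = m + 1) : Grp hd n →+ Grp hd m :=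
  QuotientAddGroup.lift _ (c1raw hd hL h) (c1raw_ker hd hL h)

theorem c1g_mk {n m : ℤ} (h : n = m + 1) (a : cycGrp δ n) (s : (ξ : X) → Cyc.secFibre L ξ) (hs : ∀ ξ, s ξ ≠ 0) :
    c1g hd hL h (mk hd n a) = mk hd m ⟨Cyc.c1CapFun δ L a.1 s, isCyc_c1 hd hL (h ▸ a.2) s hs⟩ := by
  show mk hd m _ = _
  rw [mk_eq_iff]
  exact c1_sub_mem hd hL (h ▸ a.2) _ s (sec_ne hL) hs

/-- The operator `c₁(L)`. -/
def c1op : AddMonoid.End (Tot hd) where
  toFun x m := c1g hd hL (n := m + 1) rfl (x (m + 1))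
  map_zero' := funext fun m => map_zero _
  map_add' x y := funext fun m => map_add _ _ _

theorem c1op_apply (x : Tot hd) {n m : ℤ} (h : n = m + 1) : c1op hd hL x m = c1g hd hL h (x n) := by
  subst h
  rfl

theorem c1op_cls {k : ℤ} {a : X → ℤ} (ha : IsCyc δ k a) (s : (ξ : X) → Cyc.secFibre L ξ) (hs : ∀ ξ, s ξ ≠ 0) :
    c1op hd hL (cls hd k a) = cls hd (k - 1) (Cyc.c1CapFun δ L a s) := by
  have hc : IsCyc δ (k - 1) (Cyc.c1CapFun δ L a s) := isCyc_c1 hd hL ((sub_add_cancel k 1).symm ▸ ha) s hs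
  funext m
  rcases eq_or_ne m (k - 1) with rfl | hne
  · rw [c1op_apply hd hL _ (sub_add_cancel k 1).symm, cls_apply hd ha, c1g_mk hd hL _ _ s hs, cls_apply hd hc]
  · rw [c1op_apply hd hL _ rfl, cls_apply_ne hd (show m + 1 ≠ k by omega), map_zero, cls_apply_ne hd hne]

theorem c1op_comm {N : X.Modules} (hN : PicF.IsInvertible N) :
    c1op hd hL * c1op hd hN = c1op hd hN * c1op hd hL := by
  refine AddMonoidHom.ext fun x => funext fun m => ?_
  show c1g hd hL rfl (c1g hd hN rfl (x (m + 1 + 1))) = c1g hd hN rfl (c1g hd hL rfl (x (m + 1 + 1)))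
  obtain ⟨a, ha⟩ := mk_surjective hd _ (x (m + 1 + 1))
  rw [← ha, c1g_mk hd hN rfl a _ (sec_ne hN), c1g_mk hd hL rfl _ _ (sec_ne hL), c1g_mk hd hL rfl a _ (sec_ne hL),
    c1g_mk hd hN rfl _ _ (sec_ne hN), mk_eq_iff]
  exact c1_comm hd hL hN a.2 _ _ _ _ (sec_ne hL) (sec_ne hL) (sec_ne hN) (sec_ne hN)

theorem c1op_tensor {N : X.Modules} (hN : PicF.IsInvertible N) :
    c1op hd (AmpleLib.isInvertible_tensorMod hL hN) = c1op hd hL + c1op hd hN := by
  refine AddMonoidHom.ext fun x => funext fun m => ?_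
  show c1g hd (AmpleLib.isInvertible_tensorMod hL hN) rfl (x (m + 1)) =
    c1g hd hL rfl (x (m + 1)) + c1g hd hN rfl (x (m + 1))
  obtain ⟨a, ha⟩ := mk_surjective hd _ (x (m + 1))
  rw [← ha, c1g_mk hd _ rfl a _ (sec_ne (AmpleLib.isInvertible_tensorMod hL hN)), c1g_mk hd hL rfl a _ (sec_ne hL),
    c1g_mk hd hN rfl a _ (sec_ne hN), ← map_add, mk_eq_iff]
  have h := c1_add_tensor hd hL hN a.2 _ (sec_ne hL) _ (sec_ne hN) _ (sec_ne (AmpleLib.isInvertible_tensorMod hL hN))
  rw [← neg_mem_iff, neg_sub]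
  exact h

theorem c1op_structureModule (hO : PicF.IsInvertible (Coh.structureModule X)) : c1op hd hO = 0 := by
  refine AddMonoidHom.ext fun x => funext fun m => ?_
  show c1g hd hO rfl (x (m + 1)) = 0
  obtain ⟨a, ha⟩ := mk_surjective hd _ (x (m + 1))
  rw [← ha, c1g_mk hd hO rfl a _ (sec_ne hO), ← map_zero (mk hd m), mk_eq_iff]
  simp only [AddSubgroup.coe_zero, sub_zero]
  exact c1_one hd a.2 _ (sec_ne hO)

/-- The commutative ring of operators generated by first Chern classes. -/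
abbrev opRing : Subring (AddMonoid.End (Tot hd)) :=
  Subring.closure {T | ∃ (L : X.Modules) (hL : PicF.IsInvertible L), T = c1op hd hL}

instance opRing.commRing : CommRing (opRing hd) :=
  Subring.closureCommRingOfComm fun _ ⟨_, hL, e⟩ _ ⟨_, hN, e'⟩ => by
    subst e e'
    exact c1op_comm hd hL hN

/-- `c₁(L)` in the ring of operators. -/
def c1R : opRing hd := ⟨c1op hd hL, Subring.subset_closure ⟨L, hL, rfl⟩⟩

section Pull

variable {Y : Scheme.{u}} [IsLocallyNoetherian Y] {δY : Y → ℤ} (hdY : Cyc.IsDimFun Y δY)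
  (f : X ⟶ Y) [Flat f] {c : ℤ} (hs : ShiftBy f δ δY c)

end Pull

end Groth.Agent.CycLib.ChowOp
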