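import Groth.Agent.CycLib.ChowOp.Split
import Groth.Agent.LFFrame.Basic
import Groth.Agent.KFlat.LocFree

/-!
First Chern class operators: tensor products, the structure module, extensions after pull-back.
-/

set_option autoImplicit false
set_option linter.style.haveILetI false
set_option maxHeartbeats 800000

universe u

open CategoryTheory Limits AlgebraicGeometry

noncomputable section

namespace Groth.Agent.CycLib.ChowOp

variable {X : Scheme.{u}}

theorem isFinLocFree_of_rank {n : ℕ} {M : X.Modules} (h : FlatMod.IsFinLocFreeOfRank n M) :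
    FlatMod.IsFinLocFree M := fun x => by
  obtain ⟨U, hx, e⟩ := h x
  exact ⟨U, n, hx, e⟩

/-- An extension by a finite locally free module stays exact after pull-back. -/
theorem shortExact_pullback {Y : Scheme.{u}} (f : Y ⟶ X) {A B C : X.Modules} (a : A ⟶ B) (b : B ⟶ C)
    (hab : a ≫ b = 0) (hex : (ShortComplex.mk a b hab).ShortExact) (hC : FlatMod.IsFinLocFree C) :
    ∃ h : (Scheme.Modules.pullback f).map a ≫ (Scheme.Modules.pullback f).map b = 0,
      (ShortComplex.mk ((Scheme.Modules.pullback f).map a) ((Scheme.Modules.pullback f).map b) h).ShortExact := by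
  haveI := hex.mono_f
  haveI := hex.epi_g
  haveI : PreservesColimitsOfSize.{0, 0} (Scheme.Modules.pullback f) :=
    (Scheme.Modules.pullbackPushforwardAdjunction f).leftAdjoint_preservesColimits
  have e : cokernel a ≅ C := IsColimit.coconePointUniqueUpToIso (cokernelIsCokernel a) hex.gIsCokernel
  haveI : Mono ((Scheme.Modules.pullback f).map a) :=
    EpiLocus.mono_pullback_of_isFinLocFree_cokernel a (KFlat.LocFree.isFinLocFree_of_iso e.symm hC) f
  haveI : Epi ((Scheme.Modules.pullback f).map b) :=
    (Functor.preservesEpimorphisms_of_adjunction (Scheme.Modules.pullbackPushforwardAdjunction f)).preserves b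
  exact ⟨by rw [← Functor.map_comp, hab, Functor.map_zero],
    { exact := ShortComplex.exact_of_g_is_cokernel _
        (isColimitCoforkMapOfIsColimit' (Scheme.Modules.pullback f) hab hex.gIsCokernel) }⟩

/-- A line bundle is filtered by itself. -/
theorem Filt.single {L : X.Modules} (hL : PicF.IsInvertible L) : Filt L [L] := by
  have hz : IsZero (kernel (𝟙 L)) := (isZero_zero _).of_iso (kernel.ofMono (𝟙 L))
  refine .cons (kernel.ι (𝟙 L)) (𝟙 L) (kernel.condition _) ?_ hL (.nil hz)
  exact { exact := ShortComplex.exact_of_f_is_kernel _ (kernelIsKernel _) }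

/-- The filtration of the pull-back of an extension. -/
theorem Filt.extension_pullback {Y : Scheme.{u}} (f : Y ⟶ X) {A B C : X.Modules} (a : A ⟶ B) (b : B ⟶ C)
    (hab : a ≫ b = 0) (hex : (ShortComplex.mk a b hab).ShortExact) (hC : FlatMod.IsFinLocFree C)
    {l₁ l₂ : List Y.Modules} (h₁ : Filt ((Scheme.Modules.pullback f).obj A) l₁)
    (h₂ : Filt ((Scheme.Modules.pullback f).obj C) l₂) :
    Filt ((Scheme.Modules.pullback f).obj B) (l₂ ++ l₁) := by
  obtain ⟨h, hx⟩ := shortExact_pullback f a b hab hex hC
  exact Filt.extension h₁ h₂ _ _ h hx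

variable [IsLocallyNoetherian X] {δ : X → ℤ} (hd : Cyc.IsDimFun X δ)

theorem c1of_structureModule : c1of hd (Coh.structureModule X) = 0 := by
  rw [c1of, dif_pos (LFFrame.isInvertible_structureModule X)]
  exact Subtype.ext (c1op_structureModule hd _)

theorem c1of_tensor {L N : X.Modules} (hL : PicF.IsInvertible L) (hN : PicF.IsInvertible N) :
    c1of hd (CohB1.tensorMod L N) = c1of hd L + c1of hd N := by
  rw [c1of, dif_pos (AmpleLib.isInvertible_tensorMod hL hN), c1of, dif_pos hL, c1of, dif_pos hN]
  exact Subtype.ext (c1op_tensor hd hL hN)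

theorem esym_perm {l l' : List X.Modules} (h : l.Perm l') (n : ℕ) : esym hd l n = esym hd l' n := by
  simp only [esym]
  exact congrArg (fun s => Multiset.esymm s n) (Multiset.coe_eq_coe.2 (h.map _))

theorem esym_append_single (l : List X.Modules) (L : X.Modules) (n : ℕ) :
    esym hd (l ++ [L]) (n + 1) = esym hd l (n + 1) + c1of hd L * esym hd l n := by
  rw [esym_perm hd (List.perm_append_singleton L l), esym_cons]

theorem esym_eq_zero {l : List X.Modules} {n : ℕ} (h : l.length < n) : esym hd l n = 0 := by
  rw [esym, Multiset.esymm, Multiset.powersetCard_eq_empty _ (by simpa using h)]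
  simp

end Groth.Agent.CycLib.ChowOp
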