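import Groth.Agent.CycLib.ChowOp.Group
import Groth.Agent.CycLib.ProjBdl.ChernFunct

/-!
Flat pull-back on the graded group of cycle classes.
-/

set_option autoImplicit false
set_option linter.style.haveILetI false
set_option maxHeartbeats 800000

universe u

open CategoryTheory Limits AlgebraicGeometry

noncomputable section

namespace Groth.Agent.CycLib.ChowOp

open Groth.Agent.CycLib.Dev

variable {X Y : Scheme.{u}} [IsLocallyNoetherian X] [IsLocallyNoetherian Y] {δ : X → ℤ} {δY : Y → ℤ}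
  (hY : Cyc.IsSetup Y δY) (hX : Cyc.IsSetup X δ) (f : Y ⟶ X) [Flat f] {c : ℤ} (hs : ShiftBy f δY δ c)

/-- Flat pull-back in one degree, on representatives. -/
def pullraw {n m : ℤ} (h : m = n + c) : cycGrp δ n →+ Grp hY.2.2 m :=
  AddMonoidHom.ofMapSub
    (fun a => mk hY.2.2 m ⟨Cyc.pullFun f δY δ c a.1, h ▸ ShiftC1.isCyc_pull f hY.2.2 hs a.2⟩)
    fun a b => by
      rw [← map_sub]
      congr 1
      refine Subtype.ext (funext fun x => ?_)
      show Cyc.pullFun f δY δ c (a.1 - b.1) x = Cyc.pullFun f δY δ c a.1 x - Cyc.pullFun f δY δ c b.1 x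
      simp only [Cyc.pullFun]
      split_ifs
      · show (a.1 (f x) - b.1 (f x)) * _ = _
        rw [sub_mul]
      · rw [sub_zero]

theorem pullraw_ker {n m : ℤ} (h : m = n + c) :
    (prin hX.2.2 n).addSubgroupOf (cycGrp δ n) ≤ (pullraw hY f hs h).ker := fun a ha => by
  show mk hY.2.2 m _ = 0
  rw [← map_zero (mk hY.2.2 m), mk_eq_iff]
  simp only [AddSubgroup.coe_zero, sub_zero]
  subst h
  exact ProjBdl.pull_mem (f := f) hY hX hs a.2 ha

/-- Flat pull-back in one degree. -/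
def pullg {n m : ℤ} (h : m = n + c) : Grp hX.2.2 n →+ Grp hY.2.2 m :=
  QuotientAddGroup.lift _ (pullraw hY f hs h) (pullraw_ker hY hX f hs h)

theorem pullg_mk {n m : ℤ} (h : m = n + c) (a : cycGrp δ n) :
    pullg hY hX f hs h (mk hX.2.2 n a) =
      mk hY.2.2 m ⟨Cyc.pullFun f δY δ c a.1, h ▸ ShiftC1.isCyc_pull f hY.2.2 hs a.2⟩ := rfl

/-- Flat pull-back. -/
def pull : Tot hX.2.2 →+ Tot hY.2.2 where
  toFun x m := pullg hY hX f hs (n := m - c) (sub_add_cancel m c).symm (x (m - c))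
  map_zero' := funext fun m => map_zero _
  map_add' x y := funext fun m => map_add _ _ _

theorem pull_apply (x : Tot hX.2.2) {n m : ℤ} (h : m = n + c) :
    pull hY hX f hs x m = pullg hY hX f hs h (x n) := by
  obtain rfl : n = m - c := by omega
  rfl

theorem pull_cls {k : ℤ} {a : X → ℤ} (ha : IsCyc δ k a) :
    pull hY hX f hs (cls hX.2.2 k a) = cls hY.2.2 (k + c) (Cyc.pullFun f δY δ c a) := by
  have hc := ShiftC1.isCyc_pull f hY.2.2 hs ha
  funext m
  rcases eq_or_ne m (k + c) with rfl | hne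
  · rw [pull_apply hY hX f hs _ rfl, cls_apply _ ha, pullg_mk, cls_apply _ hc]
  · rw [pull_apply hY hX f hs _ (sub_add_cancel m c).symm, cls_apply_ne _ (show m - c ≠ k by omega), map_zero,
      cls_apply_ne _ hne]

theorem pull_c1op {L : X.Modules} (hL : PicF.IsInvertible L)
    (hM : PicF.IsInvertible ((Scheme.Modules.pullback f).obj L)) (x : Tot hX.2.2) :
    pull hY hX f hs (c1op hX.2.2 hL x) = c1op hY.2.2 hM (pull hY hX f hs x) := by
  funext m
  rw [pull_apply hY hX f hs _ (sub_add_cancel m c).symm, c1op_apply _ hL _ rfl, c1op_apply _ hM _ rfl,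
    pull_apply hY hX f hs _ (show m + 1 = m - c + 1 + c by ring)]
  obtain ⟨a, ha⟩ := mk_surjective hX.2.2 _ (x (m - c + 1))
  rw [← ha, c1g_mk _ hL rfl a _ (sec_ne hL), pullg_mk, pullg_mk, c1g_mk _ hM rfl _ _ (sec_ne hM), mk_eq_iff]
  have h := ShiftC1.pull_c1_mem f hY.2.2 hs hX.2.2 hL hM a.2 (sec hL) (sec_ne hL) (sec hM) (sec_ne hM)
  rwa [sub_add_cancel] at h

end Groth.Agent.CycLib.ChowOp
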