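import Groth.Agent.CycLib.ChowOp.Ops
import Groth.Agent.KFlat.PullTensor
import Groth.Agent.ProjTwist.Tensor

/-!
Filtrations of tensor products and the symmetric function identities for them.
-/

set_option autoImplicit false
set_option linter.style.haveILetI false
set_option maxHeartbeats 800000

universe u

open CategoryTheory Limits AlgebraicGeometry

noncomputable section

namespace Groth.Agent.CycLib.ChowOp

open Groth.Agent.CycLib.Dev

theorem esymm_eq_zero_of_card_lt {R : Type*} [CommSemiring R] {s : Multiset R} {n : ℕ} (h : s.card < n) :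
    s.esymm n = 0 := by
  rw [Multiset.esymm, Multiset.powersetCard_eq_empty _ h]
  simp

theorem esymm_map_add {R : Type*} [CommRing R] (y : R) (s : Multiset R) :
    ∀ n : ℕ, (s.map (· + y)).esymm n = ∑ ab ∈ Finset.HasAntidiagonal.antidiagonal n,
      s.esymm ab.1 * ((s.card - ab.1).choose ab.2 : R) * y ^ ab.2 := by
  induction s using Multiset.induction_on with
  | empty =>
    intro n
    cases n with
    | zero => simp [Multiset.esymm]
    | succ n =>
      rw [Multiset.map_zero, esymm_eq_zero_of_card_lt (by simp), Finset.sum_eq_zero]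
      rintro ⟨a, b⟩ hab
      rw [Finset.HasAntidiagonal.mem_antidiagonal] at hab
      rcases Nat.eq_zero_or_pos a with rfl | ha
      · rw [Multiset.card_zero, Nat.sub_zero, Nat.choose_eq_zero_of_lt (show 0 < b by omega)]
        simp
      · rw [esymm_eq_zero_of_card_lt (by simpa using ha)]
        simp
  | cons x s ih =>
    intro n
    cases n with
    | zero => simp [Multiset.esymm]
    | succ n =>
      rw [Multiset.map_cons, esymm_cons, ih, ih, Finset.Nat.sum_antidiagonal_succ (n := n) (f := fun ab =>
        (x ::ₘ s).esymm ab.1 * (((x ::ₘ s).card - ab.1).choose ab.2 : R) * y ^ ab.2)]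
      have h1 : ∀ ab : ℕ × ℕ, (x ::ₘ s).esymm (ab.1 + 1) * (((x ::ₘ s).card - (ab.1 + 1)).choose ab.2 : R) * y ^ ab.2 =
          s.esymm (ab.1 + 1) * ((s.card - ab.1).choose ab.2 : R) * y ^ ab.2 +
            x * (s.esymm ab.1 * ((s.card - ab.1).choose ab.2 : R) * y ^ ab.2) := fun ab => by
        rw [esymm_cons, Multiset.card_cons, Nat.add_sub_add_right]
        ring
      simp only [h1, Finset.sum_add_distrib, ← Finset.mul_sum, add_mul]
      have h2 : ∀ a b : ℕ, s.esymm a * ((s.card + 1 - a).choose (b + 1) : R) =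
          s.esymm a * ((s.card - a).choose (b + 1) : R) + s.esymm a * ((s.card - a).choose b : R) := fun a b => by
        rcases le_or_gt a s.card with h | h
        · rw [Nat.succ_sub h, Nat.choose_succ_succ]
          push_cast
          ring
        · simp [esymm_eq_zero_of_card_lt h]
      rw [← add_assoc, ← add_assoc, add_right_comm _ (x * _), add_left_inj]
      have h3 : (x ::ₘ s).esymm 0 * (((x ::ₘ s).card - 0).choose (n + 1) : R) * y ^ (n + 1) +
          ∑ ab ∈ Finset.HasAntidiagonal.antidiagonal n,
            s.esymm (ab.1 + 1) * ((s.card - ab.1).choose ab.2 : R) * y ^ ab.2 =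
          ∑ ab ∈ Finset.HasAntidiagonal.antidiagonal (n + 1),
            s.esymm ab.1 * ((s.card + 1 - ab.1).choose ab.2 : R) * y ^ ab.2 := by
        rw [Finset.Nat.sum_antidiagonal_succ (n := n)]
        congr 1
        · simp [Multiset.esymm]
        · exact Finset.sum_congr rfl fun ab _ => by rw [Nat.add_sub_add_right]
      rw [h3, Finset.Nat.sum_antidiagonal_succ' (n := n), Finset.Nat.sum_antidiagonal_succ' (n := n), Finset.mul_sum,
        add_assoc, ← Finset.sum_add_distrib]
      congr 1
      · simp
      · exact Finset.sum_congr rfl fun ab _ => by rw [h2]; ring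

variable {X : Scheme.{u}}

/-- The tensor product of a filtered module with a line bundle. -/
theorem Filt.tensor_line {L : X.Modules} (hL : PicF.IsInvertible L) {E : X.Modules} {ls : List X.Modules}
    (h : Filt E ls) : Filt (CohB1.tensorMod E L) (ls.map (CohB1.tensorMod · L)) := by
  induction h with
  | nil h => exact .nil (((DCoh.tensorBi (X := X)).flip.obj L).map_isZero h)
  | @cons E M N ls a b hab hex hN h ih =>
    have hx := ProjTwist.shortExact_tensor hL hex
    exact .cons (((DCoh.tensorBi (X := X)).flip.obj L).map a) (((DCoh.tensorBi (X := X)).flip.obj L).map b)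
      ((ShortComplex.mk a b hab).map ((DCoh.tensorBi (X := X)).flip.obj L)).zero hx
      (AmpleLib.isInvertible_tensorMod hN hL) ih

/-- The tensor product of two filtered modules. -/
theorem Filt.tensor {F : X.Modules} {s : ℕ} (hF : FlatMod.IsFinLocFreeOfRank s F) {ms : List X.Modules}
    (h' : Filt F ms) {E : X.Modules} {ls : List X.Modules} (h : Filt E ls) :
    Filt (CohB1.tensorMod E F) (ls.flatMap fun L => ms.map (CohB1.tensorMod · L)) := by
  induction h with
  | nil h => exact .nil (((DCoh.tensorBi (X := X)).flip.obj F).map_isZero h)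
  | @cons E M N ls a b hab hex hN h ih =>
    let e : (DCoh.tensorBi (X := X)).flip.obj F ≅ (DCoh.tensorBi (X := X)).obj F :=
      (KFlat.tensorBiFlipIso (O := X.sheaf)).app F
    have hx : ((ShortComplex.mk a b hab).map ((DCoh.tensorBi (X := X)).flip.obj F)).ShortExact :=
      ShortComplex.shortExact_of_iso ((ShortComplex.mk a b hab).mapNatIso e).symm
        (CohDev.tens_shortExact hF hex)
    exact Filt.extension ih ((h'.tensor_line hN).of_iso (ProjTwist.tensComm N F)) _ _
      ((ShortComplex.mk a b hab).map ((DCoh.tensorBi (X := X)).flip.obj F)).zero hx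

/-- The pull-back of a tensor product. -/
def pullTensor {Y : Scheme.{u}} (f : Y ⟶ X) (E F : X.Modules) :
    (Scheme.Modules.pullback f).obj (CohB1.tensorMod E F) ≅
      CohB1.tensorMod ((Scheme.Modules.pullback f).obj E) ((Scheme.Modules.pullback f).obj F) :=
  KFlat.PullTensor.pullTensorIso f E F

variable [IsLocallyNoetherian X] {δ : X → ℤ} (hd : Cyc.IsDimFun X δ)

theorem map_c1of_tensor {L : X.Modules} (hL : PicF.IsInvertible L) {ls : List X.Modules}
    (h : ∀ N ∈ ls, PicF.IsInvertible N) :
    (ls.map (CohB1.tensorMod · L)).map (c1of hd) = (ls.map (c1of hd)).map (· + c1of hd L) := by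
  simp only [List.map_map]
  exact List.map_congr_left fun N hN => c1of_tensor hd (h N hN) hL

theorem esym_map_tensor {L : X.Modules} (hL : PicF.IsInvertible L) {ls : List X.Modules}
    (h : ∀ N ∈ ls, PicF.IsInvertible N) (n : ℕ) :
    esym hd (ls.map (CohB1.tensorMod · L)) n = ∑ ab ∈ Finset.HasAntidiagonal.antidiagonal n,
      esym hd ls ab.1 * ((ls.length - ab.1).choose ab.2 : opRing hd) * c1of hd L ^ ab.2 := by
  simp only [esym, map_c1of_tensor hd hL h, ← Multiset.map_coe, esymm_map_add]
  simp

/-- Iterated first Chern class caps on representatives. -/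
theorem c1Pow_cls {L : X.Modules} (hL : PicF.IsInvertible L) {k : ℤ} {a : X → ℤ} (ha : IsCyc δ k a)
    (t : ℕ → (ξ : X) → Cyc.secFibre L ξ) (ht : ∀ j ξ, t j ξ ≠ 0) :
    ∀ j : ℕ, IsCyc δ (k - j) (Cyc.c1PowFun δ L t j a) ∧
      (c1of hd L ^ j : opRing hd).1 (cls hd k a) = cls hd (k - j) (Cyc.c1PowFun δ L t j a) := by
  intro j
  induction j with
  | zero =>
    simp only [Nat.cast_zero, sub_zero, pow_zero]
    exact ⟨ha, rfl⟩
  | succ j ih =>
    obtain ⟨hc, he⟩ := ih
    rw [show k - (j : ℤ) = k - ((j + 1 : ℕ) : ℤ) + 1 by push_cast; ring] at hc he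
    refine ⟨isCyc_c1 hd hL hc (t j) (ht j), ?_⟩
    rw [pow_succ']
    show (c1of hd L).1 ((c1of hd L ^ j : opRing hd).1 (cls hd k a)) = _
    rw [he, c1of_cls hd hL hc (t j) (ht j), add_sub_cancel_right]
    rfl

variable {Y : Scheme.{u}} [IsLocallyNoetherian Y] {δY : Y → ℤ} (hY : Cyc.IsSetup Y δY)
  (hX : Cyc.IsSetup X δ) (f : Y ⟶ X) [Flat f] {c : ℤ} (hs : ShiftBy f δY δ c)

omit hd in
theorem pull_c1of_pow {L : X.Modules} (hL : PicF.IsInvertible L) : ∀ (j : ℕ) (x : Tot hX.2.2),
    pull hY hX f hs ((c1of hX.2.2 L ^ j : opRing hX.2.2).1 x) =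
      (c1of hY.2.2 ((Scheme.Modules.pullback f).obj L) ^ j : opRing hY.2.2).1 (pull hY hX f hs x) := by
  intro j
  induction j with
  | zero => exact fun x => rfl
  | succ j ih =>
    intro x
    rw [pow_succ', pow_succ']
    show pull hY hX f hs ((c1of hX.2.2 L).1 ((c1of hX.2.2 L ^ j : opRing hX.2.2).1 x)) = _
    rw [pull_c1of hY hX f hs hL, ih]
    rfl

end Groth.Agent.CycLib.ChowOp
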